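import Mathlib

/-!
Congruences between sums of two powers of two modulo a large divisor of a Mersenne number.
-/

set_option autoImplicit false

namespace CfsgLib.SolvSuzuki

theorem two_pow_add_inj_aux {a b c e : ℕ} (hab : a ≤ b) (hce : c ≤ e) (hac : a < c) :
    2 ^ a + 2 ^ b ≠ 2 ^ c + 2 ^ e := by
  intro h
  obtain ⟨x, rfl⟩ := Nat.le.dest hab
  obtain ⟨y, rfl⟩ := Nat.le.dest hac.le
  obtain ⟨z, rfl⟩ := Nat.le.dest hce
  rw [add_assoc a y z, pow_add, pow_add, pow_add 2 a (y + z), ← mul_add, show ∀ u : ℕ, 2 ^ a + 2 ^ a * u =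
    2 ^ a * (1 + u) from fun u => by rw [mul_add, mul_one]] at h
  have h1 := Nat.eq_of_mul_eq_mul_left (Nat.two_pow_pos a) h
  obtain ⟨y, rfl⟩ : ∃ y', y = y' + 1 := ⟨y - 1, by omega⟩
  rw [show y + 1 + z = y + z + 1 by omega, pow_succ, pow_succ] at h1
  have := Nat.two_pow_pos y
  have := Nat.two_pow_pos (y + z)
  rcases x with _ | x
  · rw [pow_zero] at h1; omega
  · rw [pow_succ] at h1; omega

theorem two_pow_add_inj {a b c e : ℕ} (hab : a ≤ b) (hce : c ≤ e) (h : 2 ^ a + 2 ^ b = 2 ^ c + 2 ^ e) :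
    a = c ∧ b = e := by
  rcases lt_trichotomy a c with hlt | heq | hgt
  · exact absurd h (two_pow_add_inj_aux hab hce hlt)
  · subst heq
    exact ⟨rfl, Nat.pow_right_injective le_rfl (Nat.add_left_cancel h)⟩
  · exact absurd h.symm (two_pow_add_inj_aux hce hab hgt)

theorem two_pow_pair {a b c e : ℕ} (h : 2 ^ a + 2 ^ b = 2 ^ c + 2 ^ e) :
    (a = c ∧ b = e) ∨ (a = e ∧ b = c) := by
  rcases le_total a b with hab | hab <;> rcases le_total c e with hce | hce
  · exact Or.inl (two_pow_add_inj hab hce h)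
  · exact Or.inr (two_pow_add_inj hab hce (by rw [h, add_comm]))
  · exact (two_pow_add_inj hab hce (by rw [add_comm, h])).elim fun x y => Or.inr ⟨y, x⟩
  · exact (two_pow_add_inj hab hce (by rw [add_comm, h, add_comm])).elim fun x y => Or.inl ⟨y, x⟩

theorem pow_mod_congr (n a : ℕ) : 2 ^ a ≡ 2 ^ (a % n) [MOD 2 ^ n - 1] := by
  conv_lhs => rw [← Nat.mod_add_div a n, pow_add, pow_mul]
  have h : 2 ^ n ≡ 1 [MOD 2 ^ n - 1] :=
    ((Nat.modEq_iff_dvd' (Nat.one_le_two_pow)).mpr dvd_rfl).symm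
  simpa using (h.pow (a / n)).mul_left (2 ^ (a % n))

theorem pow_gap {g : ℕ} (h : 5 ≤ g) : 5 * g + 4 < 2 ^ g := by
  induction g, h using Nat.le_induction with
  | base => norm_num
  | succ g hg ih => rw [pow_succ]; omega

theorem mod_add_inj {n r a c : ℕ} (ha : a < n) (hc : c < n) (h : (a + r) % n = (c + r) % n) : a = c := by
  have h' : a ≡ c [MOD n] := Nat.ModEq.add_right_cancel' r h
  exact h'.eq_of_lt_of_lt ha hc

theorem two_pow_congr_large {n a b c e : ℕ} (hn : 25 ≤ n) (ha : a < n) (hb : b < n) (hc : c < n) (he : e < n)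
    (h : n * (2 ^ a + 2 ^ b) ≡ n * (2 ^ c + 2 ^ e) [MOD 2 ^ n - 1]) : (a = c ∧ b = e) ∨ (a = e ∧ b = c) := by
  set g := n / 5 with hgdef
  have hg : 5 ≤ g := by omega
  obtain ⟨w, hw, hwa⟩ : ∃ w, w < 5 ∧ ∀ x ∈ ({a, b, c, e} : Finset ℕ), (n - 1 - x) / g ≠ w := by
    obtain ⟨w, hw, hw'⟩ := Finset.exists_mem_notMem_of_card_lt_card
      (s := (({a, b, c, e} : Finset ℕ)).image fun x => (n - 1 - x) / g) (t := Finset.range 5)
      (lt_of_le_of_lt Finset.card_image_le (lt_of_le_of_lt Finset.card_le_four (by simp)))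
    exact ⟨w, Finset.mem_range.mp hw, fun x hx he' => hw' (Finset.mem_image.mpr ⟨x, hx, he'⟩)⟩
  set r := w * g with hr
  have hrn : r + g ≤ n := by
    have h5 : (w + 1) * g ≤ 5 * g := Nat.mul_le_mul_right g (by omega)
    rw [add_mul, one_mul] at h5
    omega
  have hsmall : ∀ x ∈ ({a, b, c, e} : Finset ℕ), x < n → (x + r) % n + g < n := by
    intro x hx hxn
    have h1 := hwa x hx
    by_cases hlt : x + r < n
    · rw [Nat.mod_eq_of_lt hlt]
      by_contra hge
      refine h1 (Nat.div_eq_of_lt_le ?_ ?_)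
      · omega
      · rw [add_mul, one_mul]; omega
    · rw [Nat.mod_eq_sub_mod (by omega), Nat.mod_eq_of_lt (by omega)]
      omega
  have hle : ∀ x ∈ ({a, b, c, e} : Finset ℕ), x < n → 2 ^ ((x + r) % n) * (2 * 2 ^ g) ≤ 2 ^ n := by
    intro x hx hxn
    rw [← pow_succ', ← pow_add]
    exact Nat.pow_le_pow_right (by norm_num) (by have := hsmall x hx hxn; omega)
  have hgn := pow_gap hg
  have hn5 : n ≤ 5 * g + 4 := by omega
  have hlt : ∀ x y, x ∈ ({a, b, c, e} : Finset ℕ) → y ∈ ({a, b, c, e} : Finset ℕ) → x < n → y < n →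
      n * (2 ^ ((x + r) % n) + 2 ^ ((y + r) % n)) < 2 ^ n - 1 := by
    intro x y hx hy hxn hyn
    set X := 2 ^ ((x + r) % n) + 2 ^ ((y + r) % n) with hX
    have h1 : X * 2 ^ g ≤ 2 ^ n := by
      have := hle x hx hxn; have := hle y hy hyn
      rw [hX]; nlinarith
    have hXpos : 2 ≤ X := by
      have := Nat.two_pow_pos ((x + r) % n); have := Nat.two_pow_pos ((y + r) % n); omega
    have h2 : (n + 1) * X ≤ 2 ^ g * X := Nat.mul_le_mul_right X (by omega)
    rw [add_mul, one_mul, mul_comm (2 ^ g) X] at h2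
    omega
  have hrot : ∀ x y, n * (2 ^ x + 2 ^ y) * 2 ^ r ≡
      n * (2 ^ ((x + r) % n) + 2 ^ ((y + r) % n)) [MOD 2 ^ n - 1] := by
    intro x y
    rw [mul_assoc, add_mul, ← pow_add, ← pow_add]
    exact ((pow_mod_congr n _).add (pow_mod_congr n _)).mul_left n
  have h1 := ((hrot a b).symm.trans (h.mul_right (2 ^ r))).trans (hrot c e)
  have h2 := h1.eq_of_lt_of_lt (hlt a b (by simp) (by simp) ha hb) (hlt c e (by simp) (by simp) hc he)
  rcases two_pow_pair (Nat.eq_of_mul_eq_mul_left (by omega) h2) with ⟨x, y⟩ | ⟨x, y⟩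
  · exact Or.inl ⟨mod_add_inj ha hc x, mod_add_inj hb he y⟩
  · exact Or.inr ⟨mod_add_inj ha he x, mod_add_inj hb hc y⟩

/-- The three congruences for one exponent bound. -/
def smallCheck (n : ℕ) : Bool :=
  (List.range n).all fun i => (List.range n).all fun j =>
    ((n * (2 ^ i + 2 ^ j)) % (2 ^ n - 1) != n % (2 ^ n - 1) || (i == n - 1 && j == n - 1)) &&
      ((List.range n).all fun s =>
        (n * (2 ^ ((i + s) % n) + 1)) % (2 ^ n - 1) != (n * (2 ^ s + 2 ^ j)) % (2 ^ n - 1) || i == j)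

theorem smallCheck_all : (List.range 25).all (fun n => decide (n < 2) || smallCheck n) = true := by
  decide +kernel

theorem smallCheck_of_lt {n : ℕ} (h2 : 2 ≤ n) (h : n < 25) : smallCheck n = true := by
  have := List.all_eq_true.mp smallCheck_all n (List.mem_range.mpr h)
  simpa [show ¬ n < 2 by omega] using this

theorem two_pow_pred_add {n : ℕ} (hn : 1 ≤ n) : 2 ^ (n - 1) + 2 ^ (n - 1) = 2 ^ n := by
  rw [← two_mul, ← pow_succ', Nat.sub_add_cancel hn]

theorem one_congr {n : ℕ} (hn : 1 ≤ n) : n * 1 ≡ n * (2 ^ (n - 1) + 2 ^ (n - 1)) [MOD 2 ^ n - 1] := by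
  rw [two_pow_pred_add hn]
  exact ((Nat.modEq_iff_dvd' Nat.one_le_two_pow).mpr dvd_rfl).mul_left n

/-- Only the diagonal pair at the top gives a sum congruent to one. -/
theorem two_pow_sum_congr_one {n i j : ℕ} (hn : 2 ≤ n) (hi : i < n) (hj : j < n)
    (h : n * (2 ^ i + 2 ^ j) ≡ n [MOD 2 ^ n - 1]) : i = n - 1 ∧ j = n - 1 := by
  rcases Nat.lt_or_ge n 25 with hs | hs
  · have hc := smallCheck_of_lt hn hs
    simp only [smallCheck, List.all_eq_true, List.mem_range, Bool.and_eq_true, Bool.or_eq_true, bne_iff_ne,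
      beq_iff_eq] at hc
    exact ((hc i hi j hj).1).resolve_left (fun hh => hh h)
  · have h1 := one_congr (n := n) (by omega)
    rw [mul_one] at h1
    rcases two_pow_congr_large hs hi hj (Nat.sub_lt (by omega) one_pos) (Nat.sub_lt (by omega) one_pos)
      (h.trans h1) with h2 | h2
    · exact h2
    · exact h2

theorem two_pow_congr_one {n i : ℕ} (hn : 2 ≤ n) (hi : i < n) (h : n * 2 ^ i ≡ n [MOD 2 ^ n - 1]) : i = 0 := by
  by_contra hi0
  obtain ⟨i, rfl⟩ := Nat.exists_eq_succ_of_ne_zero hi0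
  rw [Nat.succ_eq_add_one, pow_succ, mul_two] at h
  have := (two_pow_sum_congr_one hn (by omega) (by omega) h).1
  omega

/-- The weights are separated. -/
theorem two_pow_weight_congr {n i j s : ℕ} (hn : 2 ≤ n) (hi : i < n) (hj : j < n) (hs : s < n)
    (h : n * (2 ^ ((i + s) % n) + 1) ≡ n * (2 ^ s + 2 ^ j) [MOD 2 ^ n - 1]) : i = j := by
  rcases Nat.lt_or_ge n 25 with hl | hl
  · have hc := smallCheck_of_lt hn hl
    simp only [smallCheck, List.all_eq_true, List.mem_range, Bool.and_eq_true, Bool.or_eq_true, bne_iff_ne,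
      beq_iff_eq] at hc
    exact ((hc i hi j hj).2 s hs).resolve_left (fun hh => hh h)
  · have h0 : 0 < n := by omega
    rw [show (1 : ℕ) = 2 ^ 0 from (pow_zero 2).symm] at h
    rcases two_pow_congr_large hl (Nat.mod_lt _ h0) h0 hs hj h with ⟨h1, h2⟩ | ⟨h1, h2⟩
    · subst h2
      exact mod_add_inj (r := s) hi h0 (by rw [h1, zero_add, Nat.mod_eq_of_lt hs])
    · subst h2
      rwa [add_zero, Nat.mod_eq_of_lt hi] at h1

end CfsgLib.SolvSuzuki
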