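import Cfsg.Agent.Lib.SolvSuzuki.Component
import Cfsg.Agent.Lib.TransitiveLinear.Large
import Cfsg.Agent.S3360
import Cfsg.Agent.Lib.SuzukiTwo.Basic

/-!
2-groups with a solvable group of automorphisms transitive on involutions.
-/

set_option autoImplicit false
set_option linter.unusedSectionVars false

namespace CfsgLib.SolvSuzuki

universe u

/-- A 2-group with more than one involution and a solvable group of automorphisms permuting them transitively. -/
structure Hyp (P : Type u) [Group P] (Y : Subgroup (MulAut P)) : Prop where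
  pgroup : IsPGroup 2 P
  solv : Group.IsSolvable Y
  trans : ∀ x y : P, x ≠ 1 → x * x = 1 → y ≠ 1 → y * y = 1 → ∃ a ∈ Y, a x = y
  two : ∃ x y : P, x ≠ y ∧ x ≠ 1 ∧ x * x = 1 ∧ y ≠ 1 ∧ y * y = 1

variable {P : Type u} [Group P] [Finite P] {Y : Subgroup (MulAut P)}

theorem Hyp.nontrivial (h : Hyp P Y) : Nontrivial P := by
  obtain ⟨x, y, hne, -⟩ := h.two
  exact ⟨x, y, hne⟩

theorem Hyp.exists_center_involution (h : Hyp P Y) : ∃ z ∈ Subgroup.center P, z ≠ 1 ∧ z * z = 1 := by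
  haveI := h.nontrivial
  haveI : Fact (Nat.Prime 2) := ⟨Nat.prime_two⟩
  haveI := h.pgroup.center_nontrivial
  obtain ⟨n, hn, hcard⟩ := (h.pgroup.to_subgroup (Subgroup.center P)).nontrivial_iff_card.mp inferInstance
  obtain ⟨z, hz⟩ := exists_prime_orderOf_dvd_card' (G := Subgroup.center P) 2 (hcard ▸ dvd_pow_self 2 (by omega))
  refine ⟨z, z.2, fun h1 => ?_, ?_⟩
  · rw [← Subgroup.orderOf_coe, h1, orderOf_one] at hz
    norm_num at hz
  · rw [← pow_two, ← hz, ← Subgroup.orderOf_coe, pow_orderOf_eq_one]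

theorem center_invariant (k : MulAut P) : ∀ a ∈ Subgroup.center P, k a ∈ Subgroup.center P :=
  CfsgLib.SuzukiTwo.center_invariant

theorem Hyp.central (h : Hyp P Y) {x : P} (hx : x * x = 1) : x ∈ Subgroup.center P := by
  by_cases hx1 : x = 1
  · rw [hx1]; exact one_mem _
  obtain ⟨z, hzC, hz1, hz2⟩ := h.exists_center_involution
  obtain ⟨k, -, rfl⟩ := h.trans z x hz1 hz2 hx1 hx
  exact center_invariant k z hzC

theorem Hyp.comm (h : Hyp P Y) {x : P} (hx : x * x = 1) (g : P) : g * x = x * g :=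
  Subgroup.mem_center_iff.mp (h.central hx) g

theorem mem_center_comm {z : P} (hz : z ∈ Subgroup.center P) (g : P) : Commute g z :=
  Subgroup.mem_center_iff.mp hz g

/-- An invariant set containing an involution contains every involution. -/
theorem Hyp.full (h : Hyp P Y) {A : Set P} (hA : ∀ k ∈ Y, ∀ a ∈ A, k a ∈ A) {x : P} (hxA : x ∈ A) (hx1 : x ≠ 1)
    (hx : x * x = 1) {y : P} (hy1 : y ≠ 1) (hy : y * y = 1) : y ∈ A := by
  obtain ⟨k, hk, rfl⟩ := h.trans x y hx1 hx hy1 hy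
  exact hA k hk x hxA

/-- The top power map of an abelian invariant subgroup covers the involutions. -/
theorem Hyp.power_surjective (h : Hyp P Y) {A : Subgroup P} (hA : ∀ k ∈ Y, ∀ a ∈ A, k a ∈ A) {e : ℕ}
    (hexp : ∀ a ∈ A, (a ^ 2 ^ e) * (a ^ 2 ^ e) = 1) (hne : ∃ a ∈ A, a ^ 2 ^ e ≠ 1) {u : P} (hu : u * u = 1) :
    ∃ a ∈ A, a ^ 2 ^ e = u := by
  by_cases hu1 : u = 1
  · exact ⟨1, A.one_mem, by rw [one_pow, hu1]⟩
  obtain ⟨a, ha, ha1⟩ := hne
  refine h.full (A := {v | ∃ a ∈ A, a ^ 2 ^ e = v}) ?_ ⟨a, ha, rfl⟩ ha1 (hexp a ha) hu1 hu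
  rintro k hk _ ⟨b, hb, rfl⟩
  exact ⟨k b, hA k hk b hb, (map_pow k b _).symm⟩

/-- In an abelian invariant subgroup of exponent `2 ^ (e + 1)`, elements killed by the top power map are squares. -/
theorem Hyp.exists_sqrt (h : Hyp P Y) {A : Subgroup P} (hA : ∀ k ∈ Y, ∀ a ∈ A, k a ∈ A)
    (hcomm : ∀ a ∈ A, ∀ b ∈ A, Commute a b) {e : ℕ}
    (hexp : ∀ a ∈ A, (a ^ 2 ^ e) * (a ^ 2 ^ e) = 1) (hne : ∃ a ∈ A, a ^ 2 ^ e ≠ 1) :
    ∀ a ∈ A, a ^ 2 ^ e = 1 → ∃ w ∈ A, w * w = a := by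
  suffices key : ∀ j ≤ e, ∀ a ∈ A, a ^ 2 ^ j = 1 → ∃ w ∈ A, w * w = a from key e le_rfl
  intro j
  induction j with
  | zero =>
    intro _ a _ h1
    rw [pow_zero, pow_one] at h1
    exact ⟨1, A.one_mem, by rw [h1, one_mul]⟩
  | succ j ih =>
    intro hj a ha h1
    have h2 : (a ^ 2 ^ j) * (a ^ 2 ^ j) = 1 := by rw [← pow_add, ← two_mul, ← pow_succ']; exact h1
    obtain ⟨b, hb, hbe⟩ := h.power_surjective hA hexp hne h2
    set m := 2 ^ (e - j - 1) with hm
    have hm2 : m * 2 * 2 ^ j = 2 ^ e := by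
      rw [hm, ← pow_succ, ← pow_add]
      congr 1
      omega
    have hb' : (b ^ (m * 2))⁻¹ ∈ A := A.inv_mem (A.pow_mem hb _)
    obtain ⟨w, hw, hwe⟩ := ih (by omega) (a * (b ^ (m * 2))⁻¹) (A.mul_mem ha hb') (by
      rw [(hcomm a ha _ hb').mul_pow, inv_pow, ← pow_mul, hm2, hbe, mul_inv_cancel])
    refine ⟨w * b ^ m, A.mul_mem hw (A.pow_mem hb _), ?_⟩
    have hc := hcomm w hw _ (A.pow_mem hb m)
    calc w * b ^ m * (w * b ^ m) = w * (b ^ m * w) * b ^ m := by group
      _ = w * (w * b ^ m) * b ^ m := by rw [← hc.eq]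
      _ = (w * w) * (b ^ m * b ^ m) := by group
      _ = a := by rw [hwe, ← pow_add, ← mul_two, inv_mul_cancel_right]

/-- A linear equivalence from two inverse linear maps. -/
def linEq {V : Type*} [AddCommGroup V] [Module (ZMod 2) V] (f g : V →ₗ[ZMod 2] V) (h1 : ∀ v, f (g v) = v)
    (h2 : ∀ v, g (f v) = v) : V ≃ₗ[ZMod 2] V :=
  { f with invFun := g, left_inv := h2, right_inv := h1 }

/-- Coordinates on the involutions in which the group acts semilinearly. -/
structure Chart (Y : Subgroup (MulAut P)) (F : Type) [Field F] (n : ℕ) where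
  val : F → P
  add : ∀ s t, val (s + t) = val s * val t
  inj : ∀ s t, val s = val t → s = t
  mem : ∀ t, val t * val t = 1
  surj : ∀ u, u * u = 1 → ∃ t, val t = u
  semi : ∀ k ∈ Y, ∃ (a : F) (σ : F ≃+* F), a ≠ 0 ∧ ∀ t, k (val t) = val (a * σ t)
  scal : ∃ k ∈ Y, ∃ l : F, l ≠ 0 ∧ 2 ^ n - 1 ∣ orderOf l * n ∧ ∀ t, k (val t) = val (l * t)

omit [Finite P] in
theorem Chart.val_zero {F : Type} [Field F] {n : ℕ} (C : Chart Y F n) : C.val 0 = 1 := by
  have := C.add 0 0
  rw [add_zero] at this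
  exact mul_eq_left.mp this.symm

theorem card_aut {F : Type} [Field F] [Finite F] [CharP F 2] {n : ℕ} (hn : Nat.card F = 2 ^ n) :
    Nat.card (F ≃+* F) = n := by
  haveI := Fintype.ofFinite F
  haveI : Fact (Nat.Prime 2) := ⟨Nat.prime_two⟩
  letI : Algebra (ZMod 2) F := ZMod.algebra F 2
  have hdim : Module.finrank (ZMod 2) F = n := by
    have h := Module.natCard_eq_pow_finrank (K := ZMod 2) (V := F)
    rw [hn, Nat.card_zmod] at h
    exact (Nat.pow_right_injective le_rfl h).symm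
  have hc : ∀ (σ : F ≃+* F) (x : ZMod 2), σ (algebraMap (ZMod 2) F x) = algebraMap (ZMod 2) F x := fun σ x =>
    DFunLike.congr_fun (Subsingleton.elim ((σ : F →+* F).comp (algebraMap (ZMod 2) F)) (algebraMap (ZMod 2) F)) x
  let e : (F ≃+* F) ≃ (F ≃ₐ[ZMod 2] F) :=
    { toFun := fun σ => AlgEquiv.ofRingEquiv (f := σ) (hc σ)
      invFun := fun τ => τ.toRingEquiv
      left_inv := fun σ => RingEquiv.ext fun x => rfl
      right_inv := fun τ => AlgEquiv.ext fun x => rfl }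
  haveI : IsGalois (ZMod 2) F := GaloisField.instIsGaloisOfFinite
  rw [Nat.card_congr e, IsGalois.card_aut_eq_finrank, hdim]

theorem Hyp.exists_chart (h : Hyp P Y) : ∃ (F : Type) (_ : Field F) (_ : Finite F) (n : ℕ),
    Nat.card F = 2 ^ n ∧ 2 ≤ n ∧ CharP F 2 ∧ Nonempty (Chart Y F n) := by
  classical
  haveI : Fact (Nat.Prime 2) := ⟨Nat.prime_two⟩
  let Om : Subgroup P :=
    { carrier := {x | x * x = 1}
      one_mem' := one_mul 1
      mul_mem' := fun {x y} hx hy => by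
        show x * y * (x * y) = 1
        rw [show x * y * (x * y) = x * (y * x) * y by group, h.comm hx y,
          show x * (x * y) * y = (x * x) * (y * y) by group, hx, hy, one_mul]
      inv_mem' := fun {x} hx => by
        show x⁻¹ * x⁻¹ = 1
        rw [← mul_inv_rev, hx, inv_one] }
  letI : CommGroup Om := { (inferInstance : Group Om) with mul_comm := fun x y => Subtype.ext (h.comm y.2 x) }
  let V := Additive Om
  letI : Module (ZMod 2) V := AddCommGroup.zmodModule fun v => by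
    rw [two_nsmul]
    exact congrArg Additive.ofMul (Subtype.ext (Additive.toMul v : Om).2)
  haveI : Finite V := inferInstanceAs (Finite Om)
  haveI : Nontrivial V := by
    obtain ⟨x, y, hne, -, hx, -, hy⟩ := h.two
    exact ⟨Additive.ofMul ⟨x, hx⟩, Additive.ofMul ⟨y, hy⟩, fun he =>
      hne (congrArg (fun v : V => ((Additive.toMul v : Om) : P)) he)⟩
  let vl : V → P := fun v => ((Additive.toMul v : Om) : P)
  have vl_inj : Function.Injective vl := fun u v huv => Additive.toMul.injective (Subtype.ext huv)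
  have vl_mem : ∀ v, vl v * vl v = 1 := fun v => (Additive.toMul v : Om).2
  have hmap : ∀ (k : MulAut P) (x : P), x * x = 1 → k x * k x = 1 := fun k x hx => by
    rw [← map_mul, hx, map_one]
  let r₀ : MulAut P → (V →+ V) := fun k =>
    AddMonoidHom.mk' (fun v => Additive.ofMul ⟨k (vl v), hmap k _ (vl_mem v)⟩) fun u v => vl_inj (map_mul k _ _)
  let ρ₀ : Y →* (V ≃ₗ[ZMod 2] V) :=
    { toFun := fun k => linEq ((r₀ k).toZModLinearMap 2)
        ((r₀ (k : MulAut P)⁻¹).toZModLinearMap 2)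
        (fun v => vl_inj (MulAut.apply_inv_self P (k : MulAut P) (vl v)))
        (fun v => vl_inj (MulAut.inv_apply_self P (k : MulAut P) (vl v)))
      map_one' := LinearEquiv.ext fun v => vl_inj rfl
      map_mul' := fun a b => LinearEquiv.ext fun v => vl_inj rfl }
  let G := ρ₀.range
  haveI := h.solv
  haveI : Finite (MulAut P) := Finite.of_injective (fun k : MulAut P => (k : P → P)) DFunLike.coe_injective
  haveI : Finite G := Finite.of_surjective _ ρ₀.rangeRestrict_surjective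
  have hsol : Group.IsSolvable G := Group.isSolvable_of_surjective ρ₀.rangeRestrict_surjective
  have hvl : ∀ (k : Y) (v : V), vl (ρ₀ k v) = (k : MulAut P) (vl v) := fun k v => rfl
  have htrans : ∀ v w : V, v ≠ 0 → w ≠ 0 → ∃ g : G, G.subtype g v = w := by
    intro v w hv hw
    obtain ⟨k, hk, hkv⟩ := h.trans (vl v) (vl w) (fun he => hv (vl_inj he)) (vl_mem v)
      (fun he => hw (vl_inj he)) (vl_mem w)
    exact ⟨⟨ρ₀ ⟨k, hk⟩, ⟨k, hk⟩, rfl⟩, vl_inj ((hvl ⟨k, hk⟩ v).trans hkv)⟩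
  set n := Module.finrank (ZMod 2) V with hndef
  have hV : Nat.card V = 2 ^ n := by rw [Module.natCard_eq_pow_finrank (K := ZMod 2), Nat.card_zmod]
  rcases Cfsg.Agent.S3360.result 2 (V := V) hsol G.subtype G.subtype_injective htrans with hF | hbad
  swap
  · exfalso
    rw [hV] at hbad
    rcases Nat.eq_zero_or_pos n with hn0 | hn0
    · rw [hn0] at hbad; simp at hbad
    · have : 2 ∣ 2 ^ n := dvd_pow_self 2 (by omega)
      simp only [Set.mem_insert_iff, Set.mem_singleton_iff] at hbad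
      rcases hbad with e | e | e | e | e | e <;> rw [e] at this <;> norm_num at this
  obtain ⟨F, _, _, e, he⟩ := hF
  haveI : CharP F 2 := CharTwo.of_one_ne_zero_of_two_eq_zero one_ne_zero (by
    obtain ⟨v, hv⟩ := e.surjective 1
    rw [← one_add_one_eq_two, ← hv, ← map_add]
    refine (congrArg e ?_).trans (map_zero e)
    exact vl_inj (vl_mem v))
  have hFn : Nat.card F = 2 ^ n := by rw [← Nat.card_congr e.toEquiv, hV]
  have hn2 : 2 ≤ n := by
    by_contra hlt
    have h4 : Nat.card V ≤ 2 := by rw [hV]; exact (Nat.pow_le_pow_right (by norm_num) (by omega : n ≤ 1)).trans (by norm_num)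
    obtain ⟨u, v, huv, hu1, hu, hv1, hv⟩ := h.two
    haveI := Fintype.ofFinite V
    have h3 : ({Additive.ofMul ⟨u, hu⟩, Additive.ofMul ⟨v, hv⟩, 0} : Finset V).card = 3 := by
      rw [Finset.card_insert_of_notMem, Finset.card_insert_of_notMem, Finset.card_singleton]
      · simp only [Finset.mem_singleton]
        exact fun he => hv1 (congrArg vl he)
      · simp only [Finset.mem_insert, Finset.mem_singleton, not_or]
        exact ⟨fun he => huv (congrArg vl he), fun he => hu1 (congrArg vl he)⟩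
    have h5 := Finset.card_le_univ ({Additive.ofMul ⟨u, hu⟩, Additive.ofMul ⟨v, hv⟩, 0} : Finset V)
    rw [h3, ← Nat.card_eq_fintype_card] at h5
    omega
  choose a σ haσ using he
  have ha0 : ∀ g, a g ≠ 0 := fun g hg => by
    have h1 := haσ g (e.symm 1)
    rw [hg, zero_mul] at h1
    have h2 : (g : V ≃ₗ[ZMod 2] V) (e.symm 1) = 0 := e.injective (h1.trans (map_zero e).symm)
    have h3 := (LinearEquiv.map_eq_zero_iff _).mp h2
    exact one_ne_zero ((e.apply_symm_apply 1).symm.trans ((congrArg e h3).trans (map_zero e)))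
  have huniq : ∀ (a₁ a₂ : F) (s₁ s₂ : F ≃+* F), a₁ ≠ 0 → (∀ t, a₁ * s₁ t = a₂ * s₂ t) → a₁ = a₂ ∧ s₁ = s₂ := by
    intro a₁ a₂ s₁ s₂ h0 hall
    have h1 := hall 1
    rw [map_one, map_one, mul_one, mul_one] at h1
    exact ⟨h1, RingEquiv.ext fun t => mul_left_cancel₀ h0 (by rw [hall t, h1])⟩
  have hprod : ∀ g₁ g₂, a (g₁ * g₂) = a g₁ * σ g₁ (a g₂) ∧ σ (g₁ * g₂) = σ g₁ * σ g₂ := fun g₁ g₂ => by
    refine huniq _ _ _ _ (ha0 _) fun t => ?_
    have h1 := haσ (g₁ * g₂) (e.symm t)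
    rw [show G.subtype (g₁ * g₂) (e.symm t) = G.subtype g₁ (G.subtype g₂ (e.symm t)) by rw [map_mul]; rfl,
      haσ, haσ, e.apply_symm_apply, map_mul] at h1
    rw [← h1, mul_assoc]
    rfl
  have hone : a 1 = 1 ∧ σ 1 = 1 := huniq _ _ _ _ (ha0 _) fun t => by
    have h1 := haσ 1 (e.symm t)
    rw [map_one, LinearEquiv.coe_one, id_eq, e.apply_symm_apply] at h1
    rw [← h1, one_mul]
    rfl
  let sHom : G →* (F ≃+* F) :=
    { toFun := σ
      map_one' := hone.2
      map_mul' := fun g₁ g₂ => (hprod g₁ g₂).2 }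
  let K := sHom.ker
  let α : K →* Fˣ :=
    { toFun := fun g => Units.mk0 (a g) (ha0 g)
      map_one' := Units.ext hone.1
      map_mul' := fun g₁ g₂ => Units.ext (by
        have h1 := (hprod (g₁ : G) g₂).1
        rw [show σ (g₁ : G) = 1 from g₁.2] at h1
        exact h1) }
  have hαinj : Function.Injective α := fun g₁ g₂ h12 => Subtype.ext (Subtype.ext (LinearEquiv.ext fun v => e.injective (by
    show e (G.subtype (g₁ : G) v) = e (G.subtype (g₂ : G) v)
    rw [haσ, haσ, show a (g₁ : G) = a (g₂ : G) from congrArg Units.val h12, show σ (g₁ : G) = 1 from g₁.2,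
      show σ (g₂ : G) = 1 from g₂.2])))
  obtain ⟨lu, hlu⟩ := IsCyclic.exists_generator (α := α.range)
  obtain ⟨gK, hgK⟩ := lu.2
  have hord : orderOf ((lu : Fˣ) : F) = Nat.card K := by
    rw [orderOf_units, Subgroup.orderOf_coe, orderOf_eq_card_of_forall_mem_zpowers hlu]
    exact (Nat.card_congr (MonoidHom.ofInjective hαinj).toEquiv).symm
  have hdiv : 2 ^ n - 1 ∣ orderOf ((lu : Fˣ) : F) * n := by
    refine (CfsgLib.TransitiveLinear.sub_one_dvd_card (ρ := G.subtype) G.subtype_injective htrans).trans ?_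
    rw [hord, ← Subgroup.card_mul_index K]
    refine Nat.mul_dvd_mul_left _ ?_
    rw [Subgroup.index_ker, ← card_aut hFn]
    exact Subgroup.card_subgroup_dvd_card _
  refine ⟨F, inferInstance, inferInstance, n, hFn, hn2, inferInstance, ⟨
    { val := fun t => vl (e.symm t)
      add := fun s t => by rw [map_add]; rfl
      inj := fun s t hst => e.symm.injective (vl_inj hst)
      mem := fun t => vl_mem _
      surj := fun u hu => ⟨e (Additive.ofMul ⟨u, hu⟩), by rw [e.symm_apply_apply]; rfl⟩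
      semi := fun k hk => ?_
      scal := ?_ }⟩⟩
  · set g : G := ⟨ρ₀ ⟨k, hk⟩, ⟨k, hk⟩, rfl⟩ with hg
    refine ⟨a g, σ g, ha0 g, fun t => ?_⟩
    refine (hvl ⟨k, hk⟩ (e.symm t)).symm.trans (congrArg vl (e.injective ?_))
    rw [e.apply_symm_apply]
    refine (haσ g (e.symm t)).trans ?_
    rw [e.apply_symm_apply]
  · obtain ⟨k, hk⟩ := (gK : G).2
    refine ⟨(k : MulAut P), k.2, ((lu : Fˣ) : F), Units.ne_zero _, hdiv, fun t => ?_⟩
    refine (hvl k (e.symm t)).symm.trans (congrArg vl (e.injective ?_))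
    rw [hk, e.apply_symm_apply]
    refine (haσ (gK : G) (e.symm t)).trans ?_
    rw [e.apply_symm_apply, show σ (gK : G) = 1 from gK.2]
    show a (gK : G) * t = _
    rw [show a (gK : G) = ((lu : Fˣ) : F) from congrArg Units.val hgK]

/-- An equivariant alternating product modulo the kernel of a map onto the involutions is trivial. -/
theorem Hyp.alternating_trivial (h : Hyp P Y) {A : Subgroup P} (hA : ∀ k ∈ Y, ∀ a ∈ A, k a ∈ A) (π : P → P) (β : P → P → P)
    (hπΩ : ∀ a ∈ A, π a * π a = 1) (hπmul : ∀ a ∈ A, ∀ b ∈ A, π (a * b) = π a * π b)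
    (hπk : ∀ k ∈ Y, ∀ a ∈ A, π (k a) = k (π a)) (hπne : ∃ a ∈ A, π a ≠ 1)
    (hβΩ : ∀ a ∈ A, ∀ b ∈ A, β a b * β a b = 1)
    (hβr : ∀ a ∈ A, ∀ b ∈ A, ∀ b' ∈ A, β a (b * b') = β a b * β a b')
    (hβl : ∀ a ∈ A, ∀ a' ∈ A, ∀ b ∈ A, β (a * a') b = β a b * β a' b)
    (hβa : ∀ a ∈ A, β a a = 1) (hβk : ∀ k ∈ Y, ∀ a ∈ A, ∀ b ∈ A, β (k a) (k b) = k (β a b))
    (hβker : ∀ a ∈ A, π a = 1 → ∀ b ∈ A, β a b = 1) : ∀ a ∈ A, ∀ b ∈ A, β a b = 1 := by
  obtain ⟨F, _, _, n, hn, hn2, hF2, ⟨C⟩⟩ := h.exists_chart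
  haveI := hF2
  obtain ⟨k, hkY, l, hl0, hlN, hval_l⟩ := C.scal
  obtain ⟨inj, hinj⟩ : ∃ inj : ∀ u : P, u * u = 1 → F, ∀ u hu, C.val (inj u hu) = u :=
    ⟨fun u hu => (C.surj u hu).choose, fun u hu => (C.surj u hu).choose_spec⟩
  let val := C.val
  have hval_add : ∀ s t, val (s + t) = val s * val t := C.add
  have hval_inj : ∀ s t, val s = val t → s = t := C.inj
  have hval_zero : val 0 = 1 := C.val_zero
  have hval_l' : ∀ t, val (l * t) = k (val t) := fun t => (hval_l t).symm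
  have hlift : ∀ t : F, ∃ a ∈ A, π a = val t := fun t => by
    by_cases ht : val t = 1
    · refine ⟨1, A.one_mem, ?_⟩
      have := hπmul 1 A.one_mem 1 A.one_mem
      rw [one_mul] at this
      rw [ht]
      exact mul_eq_right.mp this.symm
    · obtain ⟨a, ha, ha1⟩ := hπne
      refine h.full (A := {v | ∃ a ∈ A, π a = v}) ?_ ⟨a, ha, rfl⟩ ha1 (hπΩ a ha) ht (C.mem t)
      rintro k' hk' _ ⟨b, hb, rfl⟩
      exact ⟨k' b, hA k' hk' b hb, hπk k' hk' b hb⟩
  choose lift hliftA hliftπ using hlift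
  have hsymm : ∀ a ∈ A, ∀ b ∈ A, β a b = β b a := fun a ha b hb => by
    have h1 := hβa _ (A.mul_mem ha hb)
    rw [hβl a ha b hb _ (A.mul_mem ha hb), hβr a ha a ha b hb, hβr b hb a ha b hb, hβa a ha, hβa b hb, one_mul,
      mul_one] at h1
    exact (eq_inv_of_mul_eq_one_left h1).trans (eq_inv_of_mul_eq_one_left (hβΩ b hb a ha)).symm
  have hcongr : ∀ a ∈ A, ∀ a' ∈ A, ∀ b ∈ A, π a = π a' → β a b = β a' b := fun a ha a' ha' b hb he => by
    have h1 : π (a * a') = 1 := by rw [hπmul a ha a' ha', he, hπΩ a' ha']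
    have h2 := hβker _ (A.mul_mem ha ha') h1 b hb
    rw [hβl a ha a' ha' b hb] at h2
    exact (eq_inv_of_mul_eq_one_left h2).trans (eq_inv_of_mul_eq_one_left (hβΩ a' ha' b hb)).symm
  have hcongr₂ : ∀ a ∈ A, ∀ a' ∈ A, ∀ b ∈ A, ∀ b' ∈ A, π a = π a' → π b = π b' → β a b = β a' b' :=
    fun a ha a' ha' b hb b' hb' he he' => by
      rw [hcongr a ha a' ha' b hb he, hsymm a' ha' b hb, hcongr b hb b' hb' a' ha' he', hsymm b' hb' a' ha']
  let b' : F → F → F := fun s t => inj (β (lift s) (lift t)) (hβΩ _ (hliftA s) _ (hliftA t))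
  have hb' : ∀ s t, val (b' s t) = β (lift s) (lift t) := fun s t => hinj _ _
  have hzero := alternating_eq_zero hn hn2 hl0 hlN (β := b') (fun s t t' => hval_inj _ _ (by
      rw [hval_add, hb', hb', hb', ← hβr _ (hliftA s) _ (hliftA t) _ (hliftA t')]
      exact hcongr₂ _ (hliftA s) _ (hliftA s) _ (hliftA _) _ (A.mul_mem (hliftA t) (hliftA t')) rfl (by
        rw [hπmul _ (hliftA t) _ (hliftA t'), hliftπ, hliftπ, hliftπ, hval_add])))
    (fun s s' t => hval_inj _ _ (by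
      rw [hval_add, hb', hb', hb', ← hβl _ (hliftA s) _ (hliftA s') _ (hliftA t)]
      exact hcongr₂ _ (hliftA _) _ (A.mul_mem (hliftA s) (hliftA s')) _ (hliftA t) _ (hliftA t) (by
        rw [hπmul _ (hliftA s) _ (hliftA s'), hliftπ, hliftπ, hliftπ, hval_add]) rfl))
    (fun s => hval_inj _ _ (by rw [hb', hval_zero]; exact hβa _ (hliftA s)))
    (fun a b => hval_inj _ _ (by
      rw [hb', hval_l', hb', ← hβk k hkY _ (hliftA a) _ (hliftA b)]
      exact hcongr₂ _ (hliftA _) _ (hA k hkY _ (hliftA a)) _ (hliftA _) _ (hA k hkY _ (hliftA b))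
        (by rw [hπk k hkY _ (hliftA a), hliftπ, hliftπ, hval_l']) (by rw [hπk k hkY _ (hliftA b), hliftπ, hliftπ, hval_l'])))
  intro a ha b hb
  have := congrArg val (hzero (inj (π a) (hπΩ a ha)) (inj (π b) (hπΩ b hb)))
  rw [hb', hval_zero] at this
  rw [← this]
  refine hcongr₂ _ ha _ (hliftA _) _ hb _ (hliftA _) ?_ ?_ <;>
  · rw [hliftπ]
    exact (hinj _ _).symm

end CfsgLib.SolvSuzuki
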