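import Cfsg.Agent.Lib.SolvSuzuki.Basic
import Cfsg.Agent.Lib.SuzukiTwo.Center

/-!
The centre of a nonabelian 2-group with a solvable group of automorphisms transitive on involutions.
-/

set_option autoImplicit false
set_option linter.unusedSectionVars false

namespace CfsgLib.SolvSuzuki

open scoped commutatorElement
open CfsgLib.SuzukiTwo (commutator_left commutator_right conj_center commutator_left_central
  commutator_right_central commutator_center_left secondLayer center_le_secondLayer secondLayer_invariant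
  secondLayer_comm_sq secondLayer_comm_square exists_secondLayer Good)

universe u

variable {P : Type u} [Group P] [Finite P] {Y : Subgroup (MulAut P)}

/-- The induction step for the centre. -/
theorem Hyp.center_elementary (h : Hyp P Y) (hne : ∃ x y : P, x * y ≠ y * x)
    (ih : ∀ (Q : Type u) [Group Q] [Finite Q] (Y' : Subgroup (MulAut Q)), Nat.card Q < Nat.card P → Hyp Q Y' →
      (∃ x y : Q, x * y ≠ y * x) → Good Q) :
    ∀ z ∈ Subgroup.center P, z * z = 1 := by
  by_contra hno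
  push Not at hno
  obtain ⟨z₀, hz₀, hz₀2⟩ := hno
  haveI : Fact (Nat.Prime 2) := ⟨Nat.prime_two⟩
  -- the exponent of the centre
  have hex : ∃ j : ℕ, ∀ z ∈ Subgroup.center P, z ^ 2 ^ j = 1 := by
    obtain ⟨n, hn⟩ := (IsPGroup.iff_card (p := 2) (G := P)).mp h.pgroup
    exact ⟨n, fun z _ => by rw [← hn, pow_card_eq_one']⟩
  classical
  obtain ⟨e, he⟩ : ∃ e, Nat.find hex = e + 1 + 1 := by
    refine ⟨Nat.find hex - 2, ?_⟩
    have h1 : ¬ Nat.find hex ≤ 1 := fun hle => hz₀2 (by
      have hs := Nat.find_spec hex z₀ hz₀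
      rw [← pow_two]
      obtain hf | hf : Nat.find hex = 0 ∨ Nat.find hex = 1 := by omega
      · rw [hf, pow_zero, pow_one] at hs; rw [hs, one_pow]
      · rwa [hf, pow_one] at hs)
    omega
  have hexp : ∀ z ∈ Subgroup.center P, z ^ 2 ^ (e + 1) * z ^ 2 ^ (e + 1) = 1 := fun z hz => by
    rw [← pow_add, ← two_mul, ← pow_succ', ← he]
    exact Nat.find_spec hex z hz
  have hexne : ∃ z ∈ Subgroup.center P, z ^ 2 ^ (e + 1) ≠ 1 := by
    by_contra hno
    push Not at hno
    exact Nat.find_min hex (by omega : e + 1 < Nat.find hex) hno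
  have hsqrt := h.exists_sqrt (fun k _ => center_invariant k) (fun a ha b _ => (mem_center_comm ha b).symm) hexp hexne
  set N := 2 ^ (e + 1) with hN
  have hN2 : ∀ x : P, x * x = 1 → x ^ N = 1 := fun x hx => by
    rw [hN, pow_succ', pow_mul, pow_two, hx, one_pow]
  -- the map onto the involutions
  set X := secondLayer P with hX
  set ψ : P → P := fun x => (x * x) ^ N with hψ
  have hψΩ : ∀ x ∈ X, ψ x * ψ x = 1 := fun x hx => hexp _ hx.1
  have hsq_mul : ∀ a ∈ X, ∀ b ∈ X, a * b * (a * b) = a * a * (b * b) * ⁅b, a⁆ := fun a ha b hb => by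
    rw [show a * b * (a * b) = a * (⁅b, a⁆ * a) * b * b by simp only [commutatorElement_def]; group,
      ← Subgroup.mem_center_iff.mp (hb.2 a) a, ← mul_assoc a a, show a * a * ⁅b, a⁆ * b * b = a * a * (⁅b, a⁆ * (b * b)) by group,
      ← Subgroup.mem_center_iff.mp (hb.2 a) (b * b)]
    group
  have hψmul : ∀ a ∈ X, ∀ b ∈ X, ψ (a * b) = ψ a * ψ b := fun a ha b hb => by
    show (a * b * (a * b)) ^ N = _
    rw [hsq_mul a ha b hb, (mem_center_comm (hb.2 a) _).mul_pow, (mem_center_comm hb.1 _).mul_pow,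
      hN2 _ (secondLayer_comm_sq hb a), mul_one]
  have hψk : ∀ k ∈ Y, ∀ a ∈ X, ψ (k a) = k (ψ a) := fun k _ a _ => by
    show (k a * k a) ^ N = k ((a * a) ^ N)
    rw [map_pow, map_mul]
  have hψker : ∀ x ∈ X, ψ x = 1 → x ∈ Subgroup.center P := fun x hx h1 => by
    obtain ⟨w, hw, hwe⟩ := hsqrt _ hx.1 h1
    have h2 : x * w⁻¹ * (x * w⁻¹) = 1 := by
      rw [show x * w⁻¹ * (x * w⁻¹) = x * (w⁻¹ * x) * w⁻¹ by group,
        ← (mem_center_comm (InvMemClass.inv_mem hw) x).eq, show x * (x * w⁻¹) * w⁻¹ = x * x * (w⁻¹ * w⁻¹) by group,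
        ← mul_inv_rev, hwe, mul_inv_cancel]
    have := mul_mem (h.central h2) hw
    rwa [inv_mul_cancel_right] at this
  obtain ⟨x₀, hx₀, hx₀c⟩ := exists_secondLayer h.pgroup hne
  have hψne : ∃ a ∈ X, ψ a ≠ 1 := ⟨x₀, hx₀, fun h1 => hx₀c (hψker _ hx₀ h1)⟩
  have hψsurj : ∀ u : P, u * u = 1 → ∃ a ∈ X, ψ a = u := fun u hu => by
    by_cases hu1 : u = 1
    · exact ⟨1, X.one_mem, by rw [hu1]; show (1 * 1 : P) ^ N = 1; rw [one_mul, one_pow]⟩
    obtain ⟨a, ha, ha1⟩ := hψne
    refine h.full (A := {v | ∃ a ∈ X, ψ a = v}) ?_ ⟨a, ha, rfl⟩ ha1 (hψΩ a ha) hu1 hu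
    rintro k hk _ ⟨b, hb, rfl⟩
    exact ⟨k b, secondLayer_invariant b hb, hψk k hk b hb⟩
  -- it is abelian
  have hXab : ∀ a ∈ X, ∀ b ∈ X, ⁅a, b⁆ = 1 :=
    h.alternating_trivial (fun k _ => secondLayer_invariant) ψ (fun a b => ⁅a, b⁆) hψΩ hψmul hψk hψne
      (fun a ha b _ => secondLayer_comm_sq ha b)
      (fun a ha b _ b' _ => commutator_right_central (ha.2 b'))
      (fun a ha a' ha' b _ => by
        rw [commutator_left_central (ha'.2 b), (mem_center_comm (ha.2 b) _).eq])
      (fun a _ => commutatorElement_self a) (fun k _ a _ b _ => (map_commutatorElement k a b).symm)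
      (fun a ha h1 b _ => commutator_center_left (hψker a ha h1) b)
  -- all elements with central square lie in the layer
  have hinv : ∀ y : P, y * y ∈ Subgroup.center P → (∃ x ∈ X, (x * y) * (x * y) ∈ Subgroup.center P ∧
      ((x * y) * (x * y)) ^ N = 1) := by
    intro y hy
    obtain ⟨x, hx, hxe⟩ := hψsurj ((y * y) ^ N) (hexp _ hy)
    refine ⟨x, hx, ?_⟩
    have e : x * y * (x * y) = x * x * (y * y) * ⁅y, x⁆ := by
      have hc : ⁅y, x⁆ ∈ Subgroup.center P := by
        rw [← commutatorElement_inv]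
        exact InvMemClass.inv_mem (hx.2 y)
      rw [show x * y * (x * y) = x * (⁅y, x⁆ * x) * y * y by simp only [commutatorElement_def]; group,
        ← Subgroup.mem_center_iff.mp hc x, ← mul_assoc x x, show x * x * ⁅y, x⁆ * y * y = x * x * (⁅y, x⁆ * (y * y)) by group,
        ← Subgroup.mem_center_iff.mp hc (y * y)]
      group
    have hc : ⁅y, x⁆ ∈ Subgroup.center P := by
      rw [← commutatorElement_inv]
      exact InvMemClass.inv_mem (hx.2 y)
    have hc2 : ⁅y, x⁆ * ⁅y, x⁆ = 1 := by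
      rw [← commutatorElement_inv, ← mul_inv_rev, secondLayer_comm_sq hx y, inv_one]
    rw [e]
    refine ⟨mul_mem (mul_mem hx.1 hy) hc, ?_⟩
    rw [(mem_center_comm hc _).mul_pow, (mem_center_comm hy _).mul_pow, hN2 _ hc2, mul_one]
    show ψ x * _ = 1
    rw [hxe, hexp _ hy]
  have hsqX : ∀ y : P, y * y ∈ Subgroup.center P → y ∈ X := fun y hy => by
    obtain ⟨x, hx, h1, h2⟩ := hinv y hy
    obtain ⟨w, hw, hwe⟩ := hsqrt _ h1 h2
    have h3 : x * y * w⁻¹ * (x * y * w⁻¹) = 1 := by
      rw [show x * y * w⁻¹ * (x * y * w⁻¹) = x * y * (w⁻¹ * (x * y)) * w⁻¹ by group,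
        ← (mem_center_comm (InvMemClass.inv_mem hw) (x * y)).eq,
        show x * y * (x * y * w⁻¹) * w⁻¹ = x * y * (x * y) * (w⁻¹ * w⁻¹) by group, ← mul_inv_rev, hwe, mul_inv_cancel]
    have h4 : x * y ∈ X := center_le_secondLayer (by
      have := mul_mem (h.central h3) hw
      rwa [inv_mul_cancel_right] at this)
    have := X.mul_mem (X.inv_mem hx) h4
    rwa [inv_mul_cancel_left] at this
  -- the quotient by the centre
  set Q := P ⧸ Subgroup.center P with hQ
  have hmapc : ∀ k : MulAut P, (Subgroup.center P).map (k : P →* P) = Subgroup.center P := by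
    intro k
    refine le_antisymm ?_ fun z hz => ?_
    · rintro _ ⟨z, hz, rfl⟩
      exact center_invariant k z hz
    · refine ⟨k⁻¹ z, center_invariant k⁻¹ z hz, ?_⟩
      exact MulAut.apply_inv_self P k z
  let Ψ : MulAut P →* MulAut Q :=
    { toFun := fun k => QuotientGroup.congr (Subgroup.center P) (Subgroup.center P) k (hmapc k)
      map_one' := MulEquiv.ext fun x => by
        obtain ⟨x, rfl⟩ := QuotientGroup.mk_surjective x
        rfl
      map_mul' := fun a b => MulEquiv.ext fun x => by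
        obtain ⟨x, rfl⟩ := QuotientGroup.mk_surjective x
        rfl }
  have hΨ : ∀ (k : MulAut P) (x : P), Ψ k (x : Q) = ((k x : P) : Q) := fun k x => rfl
  have hQinv : ∀ x : P, ((x : Q) ≠ 1 ∧ (x : Q) * (x : Q) = 1) → x ∈ X ∧ ψ x ≠ 1 := fun x hx => by
    have h1 : x * x ∈ Subgroup.center P := by rw [← QuotientGroup.eq_one_iff, QuotientGroup.mk_mul]; exact hx.2
    exact ⟨hsqX x h1, fun h2 => hx.1 ((QuotientGroup.eq_one_iff x).mpr (hψker x (hsqX x h1) h2))⟩
  have hXQ : ∀ x ∈ X, (x : Q) * (x : Q) = 1 := fun x hx => by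
    rw [← QuotientGroup.mk_mul]
    exact (QuotientGroup.eq_one_iff _).mpr hx.1
  have hQhyp : Hyp Q (Y.map Ψ) := by
    refine ⟨h.pgroup.to_quotient _, ?_, fun a b ha ha2 hb hb2 => ?_, ?_⟩
    · haveI := h.solv
      exact Group.isSolvable_of_surjective (f := Ψ.subgroupMap Y) (Ψ.subgroupMap_surjective Y)
    · obtain ⟨x, rfl⟩ := QuotientGroup.mk_surjective a
      obtain ⟨y, rfl⟩ := QuotientGroup.mk_surjective b
      obtain ⟨hx, hx1⟩ := hQinv x ⟨ha, ha2⟩
      obtain ⟨hy, hy1⟩ := hQinv y ⟨hb, hb2⟩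
      obtain ⟨k, hk, hi⟩ := h.trans _ _ hx1 (hψΩ x hx) hy1 (hψΩ y hy)
      refine ⟨Ψ k, Subgroup.mem_map_of_mem _ hk, ?_⟩
      rw [hΨ, QuotientGroup.eq]
      have hxi : k x ∈ X := secondLayer_invariant x hx
      have hxie := hψk k hk x hx
      refine hψker _ (X.mul_mem (X.inv_mem hxi) hy) ?_
      have h1 : ψ (k x) * ψ ((k x)⁻¹ * y) = ψ y := by
        rw [← hψmul _ hxi _ (X.mul_mem (X.inv_mem hxi) hy), mul_inv_cancel_left]
      rw [hxie, hi] at h1
      exact mul_eq_left.mp h1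
    · obtain ⟨u, v, huv, hu1, hu, hv1, hv⟩ := h.two
      obtain ⟨a, ha, hae⟩ := hψsurj u hu
      obtain ⟨b, hb, hbe⟩ := hψsurj v hv
      have hzψ : ∀ x ∈ X, x ∈ Subgroup.center P → ψ x = 1 := fun x _ hx => by
        show (x * x) ^ N = 1
        rw [(Commute.refl x).mul_pow]
        exact hexp x hx
      refine ⟨(a : Q), (b : Q), fun he => huv ?_, fun he => hu1 ?_, hXQ a ha, fun he => hv1 ?_, hXQ b hb⟩
      · rw [QuotientGroup.eq] at he
        have h1 := hψmul a ha _ (X.mul_mem (X.inv_mem ha) hb)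
        rw [mul_inv_cancel_left, hzψ _ (X.mul_mem (X.inv_mem ha) hb) he, mul_one, hae, hbe] at h1
        exact h1.symm
      · rw [← hae]
        exact hzψ a ha ((QuotientGroup.eq_one_iff a).mp he)
      · rw [← hbe]
        exact hzψ b hb ((QuotientGroup.eq_one_iff b).mp he)
  -- the quotient is abelian
  have hQab : ∀ a b : P, ⁅a, b⁆ ∈ Subgroup.center P := by
    by_contra hno
    push Not at hno
    obtain ⟨a, b, hab⟩ := hno
    have hQne : ∃ x y : Q, x * y ≠ y * x := ⟨(a : Q), (b : Q), fun he => hab (by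
      rw [← QuotientGroup.eq_one_iff]
      show QuotientGroup.mk' (Subgroup.center P) ⁅a, b⁆ = 1
      rw [map_commutatorElement]
      exact commutatorElement_eq_one_iff_mul_comm.mpr he)⟩
    have hlt : Nat.card Q < Nat.card P := by
      rw [Subgroup.card_eq_card_quotient_mul_card_subgroup (Subgroup.center P)]
      haveI := h.nontrivial
      haveI := h.pgroup.center_nontrivial
      exact lt_mul_of_one_lt_right Nat.card_pos Finite.one_lt_card
    have hgood := ih Q (Y.map Ψ) hlt hQhyp hQne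
    have hmem : ∀ g : P, (g : Q) ∈ Subgroup.center Q → g ∈ X := fun g hg => hsqX g (by
      rw [← QuotientGroup.eq_one_iff, QuotientGroup.mk_mul]
      exact hgood.2 _ hg)
    have hsq : ∀ y : P, y * y ∈ X := fun y => hmem _ (by rw [QuotientGroup.mk_mul]; exact hgood.1 _)
    have hcom : ⁅a, b⁆ ∈ X := hmem _ (by
      show QuotientGroup.mk' (Subgroup.center P) ⁅a, b⁆ ∈ _
      rw [map_commutatorElement]
      exact hgood.commutator_mem _ _)
    refine hab (hψker _ hcom ?_)
    set u := ⁅a, b⁆ with hu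
    have hau : ⁅a, u⁆ ∈ Subgroup.center P ∧ ⁅a, u⁆ * ⁅a, u⁆ = 1 := by
      rw [← commutatorElement_inv]
      refine ⟨InvMemClass.inv_mem (hcom.2 a), ?_⟩
      rw [← mul_inv_rev, secondLayer_comm_sq hcom a, inv_one]
    have e : ⁅a * a, b⁆ = ⁅a, u⁆ * (u * u) := by
      rw [commutator_left, ← hu]
      simp only [commutatorElement_def]
      group
    have h1 := secondLayer_comm_sq (hsq a) b
    rw [e, show ⁅a, u⁆ * (u * u) * (⁅a, u⁆ * (u * u)) = ⁅a, u⁆ * ((u * u) * ⁅a, u⁆) * (u * u) by group,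
      Subgroup.mem_center_iff.mp hau.1 (u * u),
      show ⁅a, u⁆ * (⁅a, u⁆ * (u * u)) * (u * u) = ⁅a, u⁆ * ⁅a, u⁆ * ((u * u) * (u * u)) by group, hau.2,
      one_mul] at h1
    exact hN2 _ h1
  -- the exponent modulo the centre
  have hex' : ∃ j : ℕ, ∀ y : P, y ^ 2 ^ j ∈ Subgroup.center P := by
    obtain ⟨n, hn⟩ := (IsPGroup.iff_card (p := 2) (G := P)).mp h.pgroup
    exact ⟨n, fun y => by rw [← hn, pow_card_eq_one']; exact one_mem _⟩
  obtain ⟨f, hf⟩ : ∃ f, Nat.find hex' = f + 1 + 1 := by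
    refine ⟨Nat.find hex' - 2, ?_⟩
    have h1 : ¬ Nat.find hex' ≤ 1 := fun hle => by
      obtain ⟨a, b, hab⟩ := hne
      have hall : ∀ y : P, y ∈ X := fun y => by
        refine hsqX y ?_
        have hs := Nat.find_spec hex' y
        obtain hf | hf : Nat.find hex' = 0 ∨ Nat.find hex' = 1 := by omega
        · rw [hf, pow_zero, pow_one] at hs; exact mul_mem hs hs
        · rwa [hf, pow_one, pow_two] at hs
      exact hab (commutatorElement_eq_one_iff_mul_comm.mp (hXab a (hall a) b (hall b)))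
    omega
  set M := 2 ^ (f + 1) with hM
  have hMX : ∀ y : P, y ^ M ∈ X := fun y => hsqX _ (by
    rw [← pow_add, ← two_mul, ← pow_succ', ← hf]
    exact Nat.find_spec hex' y)
  have hMmul : ∀ a b : P, ∃ z ∈ Subgroup.center P, (a * b) ^ M = a ^ M * b ^ M * z := fun a b => by
    refine ⟨(a ^ M * b ^ M)⁻¹ * (a * b) ^ M, ?_, by rw [mul_inv_cancel_left]⟩
    rw [← QuotientGroup.eq]
    show QuotientGroup.mk' (Subgroup.center P) (a ^ M * b ^ M) = QuotientGroup.mk' (Subgroup.center P) ((a * b) ^ M)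
    rw [map_mul, map_pow, map_pow, map_pow, map_mul, Commute.mul_pow]
    refine commutatorElement_eq_one_iff_mul_comm.mp ?_
    rw [← map_commutatorElement]
    exact (QuotientGroup.eq_one_iff _).mpr (hQab a b)
  have hzero : ∀ a ∈ (⊤ : Subgroup P), ∀ b ∈ (⊤ : Subgroup P), ⁅a ^ M, b⁆ = 1 := by
    refine h.alternating_trivial (A := ⊤) (fun _ _ a _ => trivial) (fun a => ψ (a ^ M)) (fun a b => ⁅a ^ M, b⁆)
      (fun a _ => hψΩ _ (hMX a)) (fun a _ b _ => ?_) (fun k hk a _ => ?_) ?_
      (fun a _ b _ => secondLayer_comm_sq (hMX a) b) (fun a _ b _ b' _ => commutator_right_central (hQab _ _))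
      (fun a _ a' _ b _ => ?_) (fun a _ => commutatorElement_eq_one_iff_mul_comm.mpr (Commute.pow_self a M).eq)
      (fun k hk a _ b _ => ?_) (fun a _ h1 b _ => commutator_center_left (hψker _ (hMX a) h1) b)
    · obtain ⟨z, hz, he⟩ := hMmul a b
      show ψ ((a * b) ^ M) = _
      rw [he, hψmul _ (X.mul_mem (hMX a) (hMX b)) _ (center_le_secondLayer hz), hψmul _ (hMX a) _ (hMX b)]
      have : ψ z = 1 := by
        show (z * z) ^ N = 1
        rw [(Commute.refl z).mul_pow]
        exact hexp z hz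
      rw [this, mul_one]
    · show ψ ((k a) ^ M) = _
      rw [← map_pow, hψk k hk _ (hMX a)]
    · by_contra hno
      push Not at hno
      exact Nat.find_min hex' (by omega : f + 1 < Nat.find hex') fun y => hψker _ (hMX y) (hno y trivial)
    · obtain ⟨z, hz, he⟩ := hMmul a a'
      show ⁅(a * a') ^ M, b⁆ = _
      rw [he, commutator_left_central (by rw [commutator_center_left hz]; exact one_mem _),
        commutator_center_left hz, one_mul, commutator_left_central (hQab _ _), (mem_center_comm (hQab _ _) _).eq]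
    · show ⁅(k a) ^ M, k b⁆ = _
      rw [← map_pow, map_commutatorElement]
  exact Nat.find_min hex' (by omega : f + 1 < Nat.find hex') fun y => Subgroup.mem_center_iff.mpr fun g =>
    (commutatorElement_eq_one_iff_mul_comm.mp (hzero y trivial g trivial)).symm

end CfsgLib.SolvSuzuki
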