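import Cfsg.Agent.Lib.SuzukiTwo.Component
import Cfsg.Agent.Lib.SolvSuzuki.Arith

/-!
Equivariant maps on a field of characteristic two for a transitive group of semilinear maps containing the
multiplication by an element of large order.
-/

set_option autoImplicit false
set_option linter.unusedSectionVars false

namespace CfsgLib.SolvSuzuki

open Polynomial CfsgLib.SuzukiTwo

variable {F : Type*} [Field F] [Finite F] [CharP F 2]
variable {n : ℕ} (hn : Nat.card F = 2 ^ n) (hn2 : 2 ≤ n)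

theorem exists_gen (F : Type*) [Field F] [Finite F] : ∃ g : F, ∀ t : F, t ≠ 0 → ∃ i : ℕ, g ^ i = t := by
  obtain ⟨u, hu⟩ := IsCyclic.exists_monoid_generator (α := Fˣ)
  refine ⟨u, fun t ht => ?_⟩
  obtain ⟨i, hi⟩ := hu (Units.mk0 t ht)
  refine ⟨i, ?_⟩
  have := congrArg Units.val hi
  simpa using this

include hn hn2

theorem pow_two_inj {i j : Fin n} (h : ∀ t : F, t ^ (2 ^ (i : ℕ)) = t ^ (2 ^ (j : ℕ))) : i = j :=
  SuzukiTwo.pow_two_inj hn hn2 (exists_gen F).choose_spec h

theorem frobSum_injective : Function.Injective (frobSum : (Fin n → F) → (F →+ F)) :=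
  SuzukiTwo.frobSum_injective hn hn2 (exists_gen F).choose_spec

theorem frobSum_surjective : Function.Surjective (frobSum : (Fin n → F) → (F →+ F)) :=
  SuzukiTwo.frobSum_surjective hn hn2 (exists_gen F).choose_spec

theorem pow_card_pow (t : F) (m : ℕ) : t ^ (2 ^ (m % n)) = t ^ (2 ^ m) :=
  SuzukiTwo.pow_card_pow hn hn2 (exists_gen F).choose_spec t m

variable {l : F} (hl0 : l ≠ 0) (hlN : 2 ^ n - 1 ∣ orderOf l * n)

include hl0 hlN in
theorem congr_of_pow_eq {a b : ℕ} (h : l ^ a = l ^ b) : n * a ≡ n * b [MOD 2 ^ n - 1] := by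
  have h1 : (Units.mk0 l hl0) ^ a = (Units.mk0 l hl0) ^ b := Units.ext (by simpa using h)
  rw [pow_eq_pow_iff_modEq, ← orderOf_units, Units.val_mk0] at h1
  exact Nat.ModEq.of_dvd (by rwa [mul_comm n]) (h1.mul_left' n)

include hl0 hlN in
theorem pow_two_ne_self {i : Fin n} (h : l ^ (2 ^ (i : ℕ)) = l) : (i : ℕ) = 0 := by
  refine two_pow_congr_one hn2 i.2 ?_
  have h1 := congr_of_pow_eq hn hn2 hl0 hlN (a := 2 ^ (i : ℕ)) (b := 1) (by rw [pow_one]; exact h)
  rwa [mul_one] at h1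

include hl0 hlN in
/-- The eigenvalues of different components are not conjugate. -/
theorem weight_inj {i j : Fin n} {s : ℕ}
    (h : (l * (l ^ (2 ^ (i : ℕ)))⁻¹) ^ (2 ^ s) = l * (l ^ (2 ^ (j : ℕ)))⁻¹) : i = j := by
  have hn0 : 0 < n := by omega
  have hL : l ^ (2 ^ s) * l ^ (2 ^ (j : ℕ)) = l * l ^ (2 ^ ((i : ℕ) + s)) := by
    rw [mul_pow, inv_pow, ← pow_mul, ← pow_add] at h
    field_simp at h
    linear_combination h
  rw [← pow_card_pow hn hn2 l s, ← pow_card_pow hn hn2 l ((i : ℕ) + s), ← pow_add, ← pow_succ'] at hL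
  refine Fin.ext (two_pow_weight_congr hn2 i.2 j.2 (Nat.mod_lt s hn0) ?_)
  rw [Nat.add_mod_mod]
  exact (congr_of_pow_eq hn hn2 hl0 hlN hL).symm

omit hn hn2 in
/-- Semilinear maps transform the coefficients componentwise. -/
theorem frobSum_semi (c : Fin n → F) {a : F} (ha : a ≠ 0) (σ : F ≃+* F) (x : F) :
    frobSum (fun i : Fin n => a * (a ^ (2 ^ (i : ℕ)))⁻¹ * σ (c i)) (a * σ x) = a * σ (frobSum c x) := by
  rw [frobSum_apply, frobSum_apply, map_sum, Finset.mul_sum]
  refine Finset.sum_congr rfl fun i _ => ?_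
  have := pow_ne_zero (2 ^ (i : ℕ)) ha
  rw [mul_pow, map_mul, map_pow]
  field_simp

include hl0 hlN in
/-- An invariant additive subgroup of coefficient vectors is the sum of its components. -/
theorem projection_mem {A : AddSubgroup (Fin n → F)}
    (hA : ∀ a ∈ A, (fun i : Fin n => l * (l ^ (2 ^ (i : ℕ)))⁻¹ * a i) ∈ A) {a : Fin n → F} (ha : a ∈ A)
    (i : Fin n) : Pi.single i (a i) ∈ A := by
  classical
  haveI := Fintype.ofFinite F
  haveI : Fact (Nat.Prime 2) := ⟨Nat.prime_two⟩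
  letI : Algebra (ZMod 2) F := ZMod.algebra F 2
  set μ : Fin n → F := fun i => l * (l ^ (2 ^ (i : ℕ)))⁻¹ with hμ
  let G : Subring (Fin n → F) :=
    { carrier := {g | ∀ b ∈ A, g * b ∈ A}
      one_mem' := fun b hb => by rwa [one_mul]
      mul_mem' := fun {g h} hg hh b hb => by rw [mul_assoc]; exact hg _ (hh b hb)
      zero_mem' := fun b _ => by rw [zero_mul]; exact A.zero_mem
      add_mem' := fun {g h} hg hh b hb => by rw [add_mul]; exact A.add_mem (hg b hb) (hh b hb)
      neg_mem' := fun {g} hg b hb => by rw [neg_mul]; exact A.neg_mem (hg b hb) }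
  have hμG : μ ∈ G := fun b hb => hA b hb
  have hpoly : ∀ p : (ZMod 2)[X], (fun k => aeval (μ k) p) ∈ G := by
    intro p
    induction p using Polynomial.induction_on' with
    | add p q hp hq =>
      have e : (fun k => aeval (μ k) (p + q)) = (fun k => aeval (μ k) p) + (fun k => aeval (μ k) q) := by
        funext k
        simp
      rw [e]
      exact G.add_mem hp hq
    | monomial m c =>
      have e : (fun k => aeval (μ k) (monomial m c)) = (c.val : Fin n → F) * μ ^ m := by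
        funext k
        simp only [aeval_monomial, Pi.mul_apply, Pi.pow_apply, Pi.natCast_apply]
        congr 1
      rw [e]
      exact G.mul_mem (natCast_mem G _) (G.pow_mem hμG m)
  have hsep : ∀ j, j ≠ i → ∃ g ∈ G, g j = 0 ∧ g i ≠ 0 := by
    intro j hji
    refine ⟨_, hpoly (minpoly (ZMod 2) (μ j)), minpoly.aeval _ _, fun h => hji ?_⟩
    haveI : Algebra.IsAlgebraic (ZMod 2) F := Algebra.IsAlgebraic.of_finite (ZMod 2) F
    haveI : IsGalois (ZMod 2) F := GaloisField.instIsGaloisOfFinite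
    obtain ⟨σ, hσ⟩ := minpoly.exists_algEquiv_of_root' (Algebra.IsAlgebraic.isAlgebraic (μ j)) h
    obtain ⟨m, hm⟩ := (FiniteField.bijective_frobeniusAlgEquivOfAlgebraic_pow (ZMod 2) F).2 σ
    refine weight_inj hn hn2 hl0 hlN (i := j) (j := i) (s := (m : ℕ)) ?_
    rw [← hm] at hσ
    simp only [AlgEquiv.coe_pow, FiniteField.coe_frobeniusAlgEquivOfAlgebraic, pow_iterate, ZMod.card] at hσ
    exact hσ
  choose g hg hgj hgi using hsep
  let e : Fin n → F := ∏ j : {j // j ≠ i}, g j j.2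
  have heG : e ∈ G := Subring.prod_mem G fun j _ => hg j j.2
  have hei : e i ≠ 0 := by
    show (∏ j : {j // j ≠ i}, g j j.2) i ≠ 0
    rw [Finset.prod_apply]
    exact Finset.prod_ne_zero_iff.mpr fun j _ => hgi j j.2
  have hej : ∀ j, j ≠ i → e j = 0 := fun j hj => by
    show (∏ k : {k // k ≠ i}, g k k.2) j = 0
    rw [Finset.prod_apply]
    exact Finset.prod_eq_zero (Finset.mem_univ ⟨j, hj⟩) (hgj j hj)
  have hfin : e ^ (Fintype.card F - 1) * a = Pi.single i (a i) := by
    funext j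
    by_cases hj : j = i
    · subst hj
      rw [Pi.mul_apply, Pi.pow_apply, FiniteField.pow_card_sub_one_eq_one _ hei, one_mul, Pi.single_eq_same]
    · have h1 : 1 < Fintype.card F := Fintype.one_lt_card
      rw [Pi.mul_apply, Pi.pow_apply, hej j hj, zero_pow (by omega), zero_mul, Pi.single_eq_of_ne hj]
  rw [← hfin]
  exact G.pow_mem heG _ a ha

/-- A single component with no fixed-point-free member has unique fixed points. -/
theorem fixed_unique {i : Fin n} (hi : (i : ℕ) ≠ 0) {A : AddSubgroup F}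
    (hA : ∀ u v : F, u ≠ 0 → v ≠ 0 → ∃ (a : F) (σ : F ≃+* F), a ≠ 0 ∧ a * σ u = v ∧
      ∀ b ∈ A, a * (a ^ (2 ^ (i : ℕ)))⁻¹ * σ b ∈ A) (hne : ∃ a ∈ A, a ≠ 0)
    (hfix : ∀ a ∈ A, a ≠ 0 → ∃ c : F, c ≠ 0 ∧ a * c ^ (2 ^ (i : ℕ)) = c) {a c d : F}
    (hc : c ≠ 0) (hd : d ≠ 0) (hce : a * c ^ (2 ^ (i : ℕ)) = c) (hde : a * d ^ (2 ^ (i : ℕ)) = d) : c = d := by
  classical
  haveI := Fintype.ofFinite F
  haveI : Fact (Nat.Prime 2) := ⟨Nat.prime_two⟩
  set N := 2 ^ (i : ℕ) with hN
  set h : F → F := fun c => c * (c ^ N)⁻¹ with hh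
  have hval : ∀ {a c : F}, c ≠ 0 → a * c ^ N = c → a = h c := fun {a c} hc hce =>
    (eq_mul_inv_iff_mul_eq₀ (pow_ne_zero N hc)).mpr hce
  have hmul : ∀ c d, h (c * d) = h c * h d := fun c d => by
    simp only [hh, mul_pow, mul_inv]
    ring
  have hHA : ∀ c : F, c ≠ 0 → h c ∈ A := by
    intro c hc
    obtain ⟨b, hb, hb0⟩ := hne
    obtain ⟨c₀, hc₀, hbe⟩ := hfix b hb hb0
    obtain ⟨t, σ, -, hte, htA⟩ := hA c₀ c hc₀ hc
    have h1 := htA b hb
    rw [hval hc₀ hbe] at h1
    have e : σ (h c₀) = h (σ c₀) := by simp only [hh, map_mul, map_inv₀, map_pow]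
    rw [e, show t * (t ^ N)⁻¹ = h t from rfl, ← hmul, hte] at h1
    exact h1
  have hAH : ∀ b ∈ A, b ≠ 0 → ∃ c, c ≠ 0 ∧ h c = b := fun b hb hb0 => by
    obtain ⟨c, hc, hce⟩ := hfix b hb hb0
    exact ⟨c, hc, (hval hc hce).symm⟩
  have hAm : ∀ x ∈ A, ∀ y ∈ A, x * y ∈ A := fun x hx y hy => by
    by_cases hx0 : x = 0
    · simp [hx0]
    by_cases hy0 : y = 0
    · simp [hy0]
    obtain ⟨u, hu, rfl⟩ := hAH x hx hx0
    obtain ⟨v, hv, rfl⟩ := hAH y hy hy0
    rw [← hmul]
    exact hHA _ (mul_ne_zero hu hv)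
  have hAinv : ∀ x ∈ A, x⁻¹ ∈ A := fun x hx => by
    by_cases hx0 : x = 0
    · simp [hx0]
    obtain ⟨u, hu, rfl⟩ := hAH x hx hx0
    have : (h u)⁻¹ = h u⁻¹ := by simp [hh, mul_comm]
    rw [this]
    exact hHA _ (inv_ne_zero hu)
  have hsq : ∀ (K : Set F), (∀ x ∈ K, ∀ y ∈ K, x - y ∈ K) → (∀ x ∈ K, ∀ y ∈ K, x * y ∈ K) →
      (∀ x ∈ K, x⁻¹ ∈ K) → K ≠ Set.univ → Nat.card K * Nat.card K ≤ Nat.card F := by
    intro K hsub hmul' hinv hK
    obtain ⟨t, ht⟩ := (Set.ne_univ_iff_exists_notMem K).mp hK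
    rw [← Nat.card_prod]
    refine Nat.card_le_card_of_injective (fun x : K × K => (x.1 : F) + x.2 * t) ?_
    rintro ⟨⟨x, hx⟩, ⟨y, hy⟩⟩ ⟨⟨x', hx'⟩, ⟨y', hy'⟩⟩ he
    simp only at he
    by_cases hyy : y = y'
    · subst hyy
      have := add_right_cancel he
      subst this
      rfl
    · refine absurd ?_ ht
      have hne' : y - y' ≠ 0 := sub_ne_zero.mpr hyy
      rw [show t = (x' - x) * (y - y')⁻¹ by field_simp; linear_combination he]
      exact hmul' _ (hsub _ hx' _ hx) _ (hinv _ (hsub _ hy _ hy'))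
  have hsub2 : ∀ x y : F, x - y = x + y := fun x y => CharTwo.sub_eq_add x y
  let L : Set F := {t | t ^ N = t}
  by_cases hAu : (A : Set F) = Set.univ
  · have hsurj : ∀ u : Fˣ, ∃ c : Fˣ, h c = u := fun u => by
      obtain ⟨c, hc, he⟩ := hAH u (hAu.symm ▸ Set.mem_univ (u : F) : (u : F) ∈ (A : Set F)) u.ne_zero
      exact ⟨Units.mk0 c hc, he⟩
    let hu : Fˣ → Fˣ := fun c => Units.mk0 (h c) (mul_ne_zero c.ne_zero (inv_ne_zero (pow_ne_zero N c.ne_zero)))
    have hb : Function.Bijective hu := Finite.surjective_iff_bijective.mp fun u => by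
      obtain ⟨c, hc⟩ := hsurj u
      exact ⟨c, Units.ext hc⟩
    have := @hb.1 (Units.mk0 c hc) (Units.mk0 d hd) (Units.ext ((hval hc hce).symm.trans (hval hd hde)))
    exact congrArg Units.val this
  · exfalso
    have hLu : L ≠ Set.univ := fun he => hi (congrArg Fin.val (pow_two_inj hn hn2 (i := i)
      (j := ⟨0, lt_of_lt_of_le (by norm_num) hn2⟩) fun t => by
        simp only [pow_zero, pow_one]
        exact (he.symm ▸ Set.mem_univ t : t ∈ L)))
    have hLsub : ∀ x ∈ L, ∀ y ∈ L, x - y ∈ L := fun x (hx : x ^ N = x) y (hy : y ^ N = y) => by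
      show (x - y) ^ N = x - y
      rw [hsub2, hN, add_pow_char_pow, ← hN, hx, hy]
    have hL2 := hsq L hLsub
      (fun x (hx : x ^ N = x) y (hy : y ^ N = y) => show (x * y) ^ N = x * y by rw [mul_pow, hx, hy])
      (fun x (hx : x ^ N = x) => show x⁻¹ ^ N = x⁻¹ by rw [inv_pow, hx]) hLu
    have hA2 := hsq (A : Set F) (fun x hx y hy => A.sub_mem hx hy) hAm hAinv hAu
    have hcount : Nat.card F - 1 ≤ (Nat.card (A : Set F) - 1) * (Nat.card L - 1) := by
      let A0 : Finset F := Finset.univ.filter fun x => x ∈ A ∧ x ≠ 0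
      let L0 : Finset F := Finset.univ.filter fun x => x ∈ L ∧ x ≠ 0
      let U : Finset F := Finset.univ.filter fun x => x ≠ 0
      have hU : U.card = Nat.card F - 1 := by
        rw [show U = Finset.univ.erase 0 by ext x; simp [U], Finset.card_erase_of_mem (Finset.mem_univ _),
          Finset.card_univ, Nat.card_eq_fintype_card]
      have hA0 : A0.card = Nat.card (A : Set F) - 1 := by
        rw [show A0 = (A : Set F).toFinset.erase 0 by ext x; simp [A0, and_comm],
          Finset.card_erase_of_mem (by simp), Set.toFinset_card, Nat.card_eq_fintype_card]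
      have hL0 : L0.card = Nat.card L - 1 := by
        rw [show L0 = L.toFinset.erase 0 by ext x; simp [L0, and_comm],
          Finset.card_erase_of_mem (by simp [L, zero_pow (pow_ne_zero _ (two_ne_zero : (2 : ℕ) ≠ 0)), hN]),
          Set.toFinset_card, Nat.card_eq_fintype_card]
      rw [← hU, ← hA0, ← hL0, mul_comm]
      refine Finset.card_le_mul_card_image_of_maps_to (f := h) (fun x hx => ?_) _ fun b hb => ?_
      · simp only [U, Finset.mem_filter, Finset.mem_univ, true_and] at hx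
        simp only [A0, Finset.mem_filter, Finset.mem_univ, true_and]
        exact ⟨hHA x hx, mul_ne_zero hx (inv_ne_zero (pow_ne_zero N hx))⟩
      · rcases (U.filter fun x => h x = b).eq_empty_or_nonempty with he | ⟨x₀, hx₀⟩
        · simp [he]
        simp only [U, Finset.mem_filter, Finset.mem_univ, true_and] at hx₀
        refine Finset.card_le_card_of_injOn (fun x => x * x₀⁻¹) (fun x hx => ?_)
          (fun x _ y _ he => mul_right_cancel₀ (inv_ne_zero hx₀.1) he)
        simp only [U, Finset.mem_filter, Finset.mem_univ, true_and, Finset.coe_filter, Set.mem_setOf_eq] at hx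
        simp only [L0, Finset.coe_filter, Finset.mem_univ, true_and, Set.mem_setOf_eq]
        refine ⟨?_, mul_ne_zero hx.1 (inv_ne_zero hx₀.1)⟩
        show (x * x₀⁻¹) ^ N = x * x₀⁻¹
        have h1 : h x = h x₀ := hx.2.trans hx₀.2.symm
        simp only [hh] at h1
        have := pow_ne_zero N hx.1
        have := pow_ne_zero N hx₀.1
        have := hx₀.1
        rw [mul_pow, inv_pow]
        field_simp at h1 ⊢
        linear_combination -h1
    have hq : 2 ≤ Nat.card F := Finite.one_lt_card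
    obtain ⟨x, hx⟩ : ∃ x, Nat.card (A : Set F) = x + 1 := ⟨_, (Nat.succ_pred_eq_of_pos (Nat.card_pos (α := A))).symm⟩
    haveI : Nonempty L := ⟨⟨1, show (1 : F) ^ N = 1 from one_pow N⟩⟩
    obtain ⟨y, hy⟩ : ∃ y, Nat.card L = y + 1 := ⟨_, (Nat.succ_pred_eq_of_pos (Nat.card_pos (α := L))).symm⟩
    rw [hx] at hA2
    rw [hy] at hL2
    rw [hx, hy, Nat.add_sub_cancel, Nat.add_sub_cancel] at hcount
    have h1 : Nat.card F ≤ x * y + 1 := by omega
    nlinarith [Nat.mul_le_mul (Nat.le_succ x) (Nat.le_succ y)]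

include hl0 hlN in
/-- An equivariant alternating biadditive product is zero. -/
theorem alternating_eq_zero {β : F → F → F}
    (hadd : ∀ a b b', β a (b + b') = β a b + β a b') (hadd' : ∀ a a' b, β (a + a') b = β a b + β a' b)
    (halt : ∀ a, β a a = 0) (hsc : ∀ a b : F, β (l * a) (l * b) = l * β a b) : ∀ a b, β a b = 0 := by
  classical
  have hc := fun b => frobSum_surjective hn hn2 (AddMonoidHom.mk' (fun a => β a b) fun s t => hadd' s t b)
  choose c hc using hc
  have hcβ : ∀ a b, β a b = frobSum (c b) a := fun a b => (DFunLike.congr_fun (hc b) a).symm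
  have hadd_c : ∀ b b', c (b + b') = c b + c b' := fun b b' => frobSum_injective hn hn2 (by
    refine AddMonoidHom.ext fun a => ?_
    rw [SuzukiTwo.frobSum_add, AddMonoidHom.add_apply, ← hcβ, ← hcβ, ← hcβ, hadd])
  have hd := fun i : Fin n => frobSum_surjective hn hn2
    (AddMonoidHom.mk' (fun b => c b i) fun s t => by rw [hadd_c]; rfl)
  choose d hd using hd
  have hdc : ∀ b i, c b i = frobSum (d i) b := fun b i => (DFunLike.congr_fun (hd i) b).symm
  -- the support
  have hsupp : ∀ i j : Fin n, d i j ≠ 0 → i = j ∧ (i : ℕ) = n - 1 := by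
    have hk : ∀ b, (fun i : Fin n => l ^ (2 ^ (i : ℕ)) * c (l * b) i) = fun i => l * c b i := fun b => by
      refine frobSum_injective hn hn2 (AddMonoidHom.ext fun a => ?_)
      have h1 := hsc a b
      rw [hcβ, hcβ, frobSum_apply, frobSum_apply, Finset.mul_sum] at h1
      rw [frobSum_apply, frobSum_apply]
      refine Eq.trans (Finset.sum_congr rfl fun k _ => ?_) (h1.trans (Finset.sum_congr rfl fun k _ => ?_))
      · rw [mul_pow]; ring
      · ring
    intro i j hij
    have hk2 : (fun m : Fin n => l ^ (2 ^ (i : ℕ)) * l ^ (2 ^ (m : ℕ)) * d i m) = fun m => l * d i m := by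
      refine frobSum_injective hn hn2 (AddMonoidHom.ext fun b => ?_)
      have h1 := congrFun (hk b) i
      rw [hdc, hdc, frobSum_apply, frobSum_apply, Finset.mul_sum, Finset.mul_sum] at h1
      rw [frobSum_apply, frobSum_apply]
      refine Eq.trans (Finset.sum_congr rfl fun k _ => ?_) (h1.trans (Finset.sum_congr rfl fun k _ => ?_))
      · rw [mul_pow]; ring
      · ring
    have h2 := mul_right_cancel₀ hij (congrFun hk2 j)
    rw [← pow_add] at h2
    have h3 := congr_of_pow_eq hn hn2 hl0 hlN (a := 2 ^ (i : ℕ) + 2 ^ (j : ℕ)) (b := 1) (by rw [pow_one]; exact h2)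
    rw [mul_one] at h3
    obtain ⟨h4, h5⟩ := two_pow_sum_congr_one hn2 i.2 j.2 h3
    exact ⟨Fin.ext (h4.trans h5.symm), h4⟩
  let m : Fin n := ⟨n - 1, by omega⟩
  have hform : ∀ a b, β a b = d m m * b ^ (2 ^ (n - 1)) * a ^ (2 ^ (n - 1)) := by
    intro a b
    have hd0 : ∀ i j : Fin n, ¬ (i = m ∧ j = m) → d i j = 0 := fun i j hne => by
      by_contra h
      obtain ⟨h1, h2⟩ := hsupp i j h
      exact hne ⟨Fin.ext h2, h1 ▸ Fin.ext h2⟩
    rw [hcβ, frobSum_apply, Finset.sum_eq_single m, hdc, frobSum_apply, Finset.sum_eq_single m]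
    · intro j _ hj; rw [hd0 m j (fun h => hj h.2), zero_mul]
    · simp
    · intro i _ hi
      rw [hdc, frobSum_apply, Finset.sum_eq_zero (fun j _ => by rw [hd0 i j (fun h => hi h.1), zero_mul]), zero_mul]
    · simp
  have h0 : d m m = 0 := by
    have := halt 1
    rwa [hform, one_pow, mul_one, mul_one] at this
  intro a b
  rw [hform, h0, zero_mul, zero_mul]

include hl0 hlN in
/-- The squaring map on the module vanishes. -/
theorem phi_eq_zero (S : F → (F ≃+* F) → Prop) (hlS : S l (RingEquiv.refl F))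
    (hS : ∀ u v : F, u ≠ 0 → v ≠ 0 → ∃ a σ, S a σ ∧ a ≠ 0 ∧ a * σ u = v)
    (W : AddSubgroup (F →+ F))
    (hconj : ∀ a σ, S a σ → ∀ w ∈ W, ∃ w' ∈ W, ∀ x, w' (a * σ x) = a * σ (w x))
    (φ : (F →+ F) → F) (B : (F →+ F) → (F →+ F) → F)
    (hadd : ∀ a ∈ W, ∀ b ∈ W, φ (a + b) = φ a + φ b + B a b)
    (hB : ∀ a ∈ W, ∀ b ∈ W, ∀ c ∈ W, B a (b + c) = B a b + B a c)
    (hE : ∀ a ∈ W, ∀ b ∈ W, b (φ a) = B a b + a (B a b))
    (hself : ∀ a ∈ W, a (φ a) = 0)
    (hfix : ∀ a ∈ W, a ≠ 0 → φ a = 0 → ∃ c, c ≠ 0 ∧ a c = c)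
    (hone : AddMonoidHom.id F ∉ W) : ∀ w ∈ W, φ w = 0 := by
  classical
  have hsymm : ∀ a ∈ W, ∀ b ∈ W, B a b = B b a := fun a ha b hb => by
    have h1 := hadd a ha b hb
    rw [add_comm a b, hadd b hb a ha, add_comm (φ b) (φ a)] at h1
    exact (add_left_cancel h1).symm
  have hB0 : ∀ a ∈ W, B a 0 = 0 := fun a ha => by
    have h := hB a ha 0 W.zero_mem 0 W.zero_mem
    rw [add_zero] at h
    exact add_eq_left.mp h.symm
  have hφ0 : φ 0 = 0 := by
    have h := hadd 0 W.zero_mem 0 W.zero_mem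
    rw [add_zero, hB0 0 W.zero_mem, add_zero, CharTwo.add_self_eq_zero] at h
    exact h
  let Φ : (Fin n → F) →+ (F →+ F) :=
    { toFun := frobSum
      map_zero' := by ext x; simp [frobSum_apply]
      map_add' := SuzukiTwo.frobSum_add }
  let A : AddSubgroup (Fin n → F) := W.comap Φ
  have hsemi : ∀ a σ, S a σ → a ≠ 0 → ∀ c ∈ A, (fun i : Fin n => a * (a ^ (2 ^ (i : ℕ)))⁻¹ * σ (c i)) ∈ A := by
    intro a σ hSa ha c hc
    obtain ⟨w', hw', he⟩ := hconj a σ hSa _ hc
    have : w' = frobSum (fun i : Fin n => a * (a ^ (2 ^ (i : ℕ)))⁻¹ * σ (c i)) := by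
      refine AddMonoidHom.ext fun y => ?_
      obtain ⟨x, rfl⟩ : ∃ x, a * σ x = y := ⟨σ.symm (a⁻¹ * y), by rw [σ.apply_symm_apply, mul_inv_cancel_left₀ ha]⟩
      rw [he, frobSum_semi c ha]
      rfl
    show frobSum _ ∈ W
    exact this ▸ hw'
  have hA : ∀ a ∈ A, (fun i : Fin n => l * (l ^ (2 ^ (i : ℕ)))⁻¹ * a i) ∈ A := fun a ha =>
    hsemi l _ hlS hl0 a ha
  have hW : ∀ a, a ∈ A → frobSum a ∈ W := fun a ha => ha
  have hsingle : ∀ (i : Fin n) (a : F), Pi.single i a ∈ A → φ (frobSum (Pi.single i a)) = 0 := by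
    intro i a ha
    by_cases ha0 : a = 0
    · rw [ha0, Pi.single_zero]
      exact (congrArg φ (map_zero Φ)).trans hφ0
    have h := hself _ (hW _ ha)
    rw [SuzukiTwo.eval_single hn hn2 (exists_gen F).choose_spec] at h
    exact eq_zero_of_pow_eq_zero ((mul_eq_zero.mp h).resolve_left ha0)
  have heval : ∀ (i : Fin n) (a x : F), frobSum (Pi.single i a) x = a * x ^ (2 ^ (i : ℕ)) :=
    SuzukiTwo.eval_single hn hn2 (exists_gen F).choose_spec
  have hne0 : ∀ (i : Fin n) (a : F), a ≠ 0 → frobSum (Pi.single i a) ≠ 0 := fun i a ha h => by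
    have := DFunLike.congr_fun h 1
    rw [heval, one_pow, mul_one] at this
    exact ha this
  have hnz : ∀ (i : Fin n) (a : F), Pi.single i a ∈ A → a ≠ 0 → (i : ℕ) ≠ 0 := by
    intro i a ha ha0 hi
    obtain ⟨c, hc, hce⟩ := hfix _ (hW _ ha) (hne0 i a ha0) (hsingle i a ha)
    rw [heval, hi, pow_zero, pow_one] at hce
    have ha1 : a = 1 := (mul_eq_right₀ hc).mp hce
    refine hone ?_
    have : frobSum (Pi.single i a) = AddMonoidHom.id F := AddMonoidHom.ext fun x => by
      rw [heval, hi, ha1, pow_zero, pow_one, one_mul]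
      rfl
    exact this ▸ ha
  let Ai : Fin n → AddSubgroup F := fun i => A.comap (AddMonoidHom.single (fun _ : Fin n => F) i)
  have hAi : ∀ i a σ, S a σ → a ≠ 0 → ∀ c ∈ Ai i, a * (a ^ (2 ^ (i : ℕ)))⁻¹ * σ c ∈ Ai i := by
    intro i a σ hSa ha c hc
    have h1 := hsemi a σ hSa ha _ hc
    show Pi.single i _ ∈ A
    convert h1 using 1
    funext k
    by_cases hk : k = i
    · subst hk
      simp [AddMonoidHom.single_apply]
    · simp [AddMonoidHom.single_apply, Pi.single_eq_of_ne hk]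
  -- components have unique fixed points
  have huniq : ∀ (i : Fin n) (a c d : F), Pi.single i a ∈ A → a ≠ 0 → c ≠ 0 → d ≠ 0 →
      frobSum (Pi.single i a) c = c → frobSum (Pi.single i a) d = d → c = d := by
    intro i a c d ha ha0 hc hd hce hde
    rw [heval] at hce hde
    refine fixed_unique hn hn2 (A := Ai i) (hnz i a ha ha0) (fun u v hu hv => ?_) ⟨a, ha, ha0⟩
      (fun b hb hb0 => ?_) hc hd hce hde
    · obtain ⟨t, σ, hSt, ht, hte⟩ := hS u v hu hv
      exact ⟨t, σ, ht, hte, hAi i t σ hSt ht⟩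
    · obtain ⟨e, he, hee⟩ := hfix _ (hW _ hb) (hne0 i b hb0) (hsingle i b hb)
      rw [AddMonoidHom.single_apply, heval] at hee
      exact ⟨e, he, hee⟩
  have hBfix : ∀ (i : Fin n) (a : F) (b : F →+ F), Pi.single i a ∈ A → b ∈ W →
      frobSum (Pi.single i a) (B (frobSum (Pi.single i a)) b) = B (frobSum (Pi.single i a)) b := by
    intro i a b ha hb
    have h := hE _ (hW _ ha) b hb
    rw [hsingle i a ha, map_zero] at h
    exact (CharTwo.add_eq_zero.mp h.symm).symm
  have hBzero : ∀ (i j : Fin n) (a b : F), Pi.single i a ∈ A → Pi.single j b ∈ A →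
      B (frobSum (Pi.single i a)) (frobSum (Pi.single j b)) = 0 := by
    intro i j a b ha hb
    by_cases hij : i = j
    · subst hij
      have h := hadd _ (hW _ ha) _ (hW _ hb)
      rw [← SuzukiTwo.frobSum_add, ← Pi.single_add, hsingle i a ha, hsingle i b hb,
        hsingle i _ (by rw [Pi.single_add]; exact A.add_mem ha hb), zero_add, zero_add] at h
      exact h.symm
    by_cases ha0 : a = 0
    · rw [ha0, Pi.single_zero, show frobSum (0 : Fin n → F) = 0 from map_zero Φ, hsymm 0 W.zero_mem _ (hW _ hb),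
        hB0 _ (hW _ hb)]
    by_contra hne
    set x := frobSum (Pi.single i a) with hx
    set c₀ := B x (frobSum (Pi.single j b)) with hc₀
    have hb0 : b ≠ 0 := fun h => hne (by
      rw [hc₀, h, Pi.single_zero, show frobSum (0 : Fin n → F) = 0 from map_zero Φ, hB0 _ (hW _ ha)])
    have hfixj : ∀ b', Pi.single j b' ∈ A → B x (frobSum (Pi.single j b')) ≠ 0 →
        b' * c₀ ^ (2 ^ (j : ℕ)) = c₀ := by
      intro b' hb' hne'
      have h1 := hBfix i a _ ha (hW _ hb')
      have h2 := hBfix j b' x hb' (hW _ ha)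
      rw [hsymm _ (hW _ hb') x (hW _ ha)] at h2
      have h3 := huniq i a _ c₀ ha ha0 hne' hne h1 (hBfix i a _ ha (hW _ hb))
      rw [h3, heval] at h2
      exact h2
    have honly : ∀ b', Pi.single j b' ∈ A → B x (frobSum (Pi.single j b')) ≠ 0 → b' = b := fun b' hb' hne' =>
      mul_right_cancel₀ (pow_ne_zero _ hne) ((hfixj b' hb' hne').trans (hfixj b hb hne).symm)
    obtain ⟨b₁, hb₁, hb₁0, hb₁b⟩ : ∃ b₁, Pi.single j b₁ ∈ A ∧ b₁ ≠ 0 ∧ b₁ ≠ b := by
      refine ⟨l * (l ^ (2 ^ (j : ℕ)))⁻¹ * b, hAi j l _ hlS hl0 b hb, mul_ne_zero (mul_ne_zero hl0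
        (inv_ne_zero (pow_ne_zero _ hl0))) hb0, fun h => ?_⟩
      have h1 : l * (l ^ (2 ^ (j : ℕ)))⁻¹ = 1 := (mul_eq_right₀ hb0).mp h
      have hl' : l = l ^ (2 ^ (j : ℕ)) := mul_inv_eq_one₀ (pow_ne_zero _ hl0) |>.mp h1
      exact hnz j b hb hb0 (pow_two_ne_self hn hn2 hl0 hlN hl'.symm)
    have h0 : B x (frobSum (Pi.single j b₁)) = 0 := by
      by_contra h
      exact hb₁b (honly b₁ hb₁ h)
    have h1 : Pi.single j (b + b₁) ∈ A := by rw [Pi.single_add]; exact A.add_mem hb hb₁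
    have h2 := honly (b + b₁) h1 (by
      rw [Pi.single_add, SuzukiTwo.frobSum_add, hB x (hW _ ha) _ (hW _ hb) _ (hW _ hb₁), h0, add_zero]
      exact hne)
    exact hb₁0 (add_eq_left.mp h2)
  have hproj := fun {a : Fin n → F} (ha : a ∈ A) (k : Fin n) => projection_mem hn hn2 hl0 hlN hA ha k
  have hsum : ∀ (s : Finset (Fin n)) (a : Fin n → F), a ∈ A →
      (∀ i, B (frobSum (Pi.single i (a i))) (frobSum (∑ k ∈ s, Pi.single k (a k))) = 0) ∧
      φ (frobSum (∑ k ∈ s, Pi.single k (a k))) = 0 := by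
    intro s a ha
    have hmem : ∀ t : Finset (Fin n), (∑ k ∈ t, Pi.single k (a k)) ∈ A := fun t =>
      A.sum_mem fun k _ => hproj ha k
    induction s using Finset.induction with
    | empty =>
      rw [Finset.sum_empty, show frobSum (0 : Fin n → F) = 0 from map_zero Φ]
      exact ⟨fun i => hB0 _ (hW _ (hproj ha i)), hφ0⟩
    | insert k s hk ih =>
      rw [Finset.sum_insert hk, SuzukiTwo.frobSum_add]
      refine ⟨fun i => ?_, ?_⟩
      · rw [hB _ (hW _ (hproj ha i)) _ (hW _ (hproj ha k)) _ (hW _ (hmem s)),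
          hBzero i k _ _ (hproj ha i) (hproj ha k), ih.1 i, add_zero]
      · rw [hadd _ (hW _ (hproj ha k)) _ (hW _ (hmem s)),
          hsingle k _ (hproj ha k), ih.2, ih.1 k, add_zero, add_zero]
  intro w hw
  obtain ⟨a, rfl⟩ := frobSum_surjective hn hn2 w
  have h := (hsum Finset.univ a hw).2
  rwa [Finset.univ_sum_single] at h

end CfsgLib.SolvSuzuki
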