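import Cfsg.Agent.Lib.Elementary
import Cfsg.Agent.Lib.SolvSuzuki.Center

/-!
Higman's theorem: in a nonabelian 2-group with more than one involution and a solvable group of automorphisms
transitive on involutions, squares are central and the centre is elementary abelian.
-/

set_option autoImplicit false
set_option linter.unusedSectionVars false
set_option maxHeartbeats 1000000

namespace CfsgLib.SolvSuzuki

open scoped commutatorElement
open CfsgLib.SuzukiTwo (commutator_left commutator_right conj_center commutator_left_central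
  commutator_right_central commutator_center_left secondLayer center_le_secondLayer secondLayer_invariant
  secondLayer_comm_sq secondLayer_comm_square exists_secondLayer Good)

universe u

variable {P : Type u} [Group P] [Finite P] {Y : Subgroup (MulAut P)}

theorem Hyp.squares_central (h : Hyp P Y) (hne : ∃ x y : P, x * y ≠ y * x)
    (hZ : ∀ z ∈ Subgroup.center P, z * z = 1)
    (ih : ∀ (Q : Type u) [Group Q] [Finite Q] (Y' : Subgroup (MulAut Q)), Nat.card Q < Nat.card P → Hyp Q Y' →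
      (∃ x y : Q, x * y ≠ y * x) → Good Q) :
    ∀ x : P, x * x ∈ Subgroup.center P := by
  by_contra hno
  push Not at hno
  obtain ⟨y₀, hy₀⟩ := hno
  haveI : Fact (Nat.Prime 2) := ⟨Nat.prime_two⟩
  set X := secondLayer P with hX
  set Z := Subgroup.center P with hZdef
  -- squares and centre
  set D := Subgroup.closure {x : P | ∃ y, y * y = x} ⊔ Z with hD
  have hDsq : ∀ y : P, y * y ∈ D := fun y => Subgroup.mem_sup_left (Subgroup.subset_closure ⟨y, rfl⟩)
  haveI hDn : D.Normal := by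
    refine ⟨fun d hd g => ?_⟩
    have e : g * d * g⁻¹ = (g * d) * (g * d) * (d⁻¹ * (g⁻¹ * g⁻¹)) := by group
    rw [e]
    exact D.mul_mem (hDsq _) (D.mul_mem (D.inv_mem hd) (hDsq _))
  have hDX : ∀ x ∈ X, ∀ d ∈ D, ⁅x, d⁆ = 1 := by
    intro x hx
    have hle : D ≤ Subgroup.centralizer ({x} : Set P) := by
      refine sup_le ((Subgroup.closure_le _).mpr ?_) (fun z hz => ?_)
      · rintro _ ⟨y, rfl⟩
        exact Subgroup.mem_centralizer_singleton_iff.mpr
          (commutatorElement_eq_one_iff_mul_comm.mp (secondLayer_comm_square hx y)).symm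
      · exact Subgroup.mem_centralizer_singleton_iff.mpr (Subgroup.mem_center_iff.mp hz x).symm
    exact fun d hd => commutatorElement_eq_one_iff_mul_comm.mpr
      (Subgroup.mem_centralizer_singleton_iff.mp (hle hd)).symm
  have hDk : ∀ k : MulAut P, ∀ d ∈ D, k d ∈ D := by
    intro k
    have hle : D ≤ D.comap (k : P →* P) := by
      refine sup_le ((Subgroup.closure_le _).mpr ?_) fun z hz => Subgroup.mem_sup_right (center_invariant k z hz)
      rintro _ ⟨y, rfl⟩
      show k (y * y) ∈ D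
      rw [map_mul]
      exact hDsq _
    exact hle
  set M := X ⊓ D with hM
  have hMk : ∀ k : MulAut P, ∀ m ∈ M, k m ∈ M := fun k m hm => ⟨secondLayer_invariant m hm.1, hDk k m hm.2⟩
  have hMcomm : ∀ a ∈ M, ∀ b ∈ M, Commute a b := fun a ha b hb =>
    commutatorElement_eq_one_iff_mul_comm.mp (hDX a ha.1 b hb.2)
  have hZM : Z ≤ M := fun z hz => ⟨center_le_secondLayer hz, Subgroup.mem_sup_right hz⟩
  have hMnot : ∃ m ∈ M, m ∉ Z := by
    have hmap : D.map (QuotientGroup.mk' Z) ≠ ⊥ := fun h1 => hy₀ (by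
      have h2 : QuotientGroup.mk' Z (y₀ * y₀) ∈ D.map (QuotientGroup.mk' Z) := ⟨_, hDsq y₀, rfl⟩
      rw [h1, Subgroup.mem_bot] at h2
      exact (QuotientGroup.eq_one_iff _).mp h2)
    haveI : (D.map (QuotientGroup.mk' Z)).Normal := hDn.map _ (QuotientGroup.mk'_surjective Z)
    haveI : Nontrivial ↥(D.map (QuotientGroup.mk' Z)) := (Subgroup.nontrivial_iff_ne_bot _).mpr hmap
    have hQ : IsPGroup 2 (P ⧸ Z) := h.pgroup.to_quotient _
    haveI : Group.IsNilpotent (P ⧸ Z) := hQ.isNilpotent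
    haveI : Nontrivial ↥(D.map (QuotientGroup.mk' Z) ⊓ Subgroup.center (P ⧸ Z)) :=
      (Subgroup.nontrivial_iff_ne_bot _).mpr (CfsgLib.inf_center_ne_bot_of_nilpotent hmap)
    obtain ⟨n, hn, hcard⟩ :=
      (hQ.to_subgroup (D.map (QuotientGroup.mk' Z) ⊓ Subgroup.center (P ⧸ Z))).nontrivial_iff_card.mp inferInstance
    obtain ⟨⟨z, ⟨x, hxD, hxz⟩, hzc⟩, hz⟩ := exists_prime_orderOf_dvd_card'
      (G := ↥(D.map (QuotientGroup.mk' Z) ⊓ Subgroup.center (P ⧸ Z))) 2 (hcard ▸ dvd_pow_self 2 (by omega))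
    rw [← Subgroup.orderOf_coe] at hz
    change orderOf z = 2 at hz
    refine ⟨x, ⟨⟨?_, fun y => ?_⟩, hxD⟩, fun hxZ => ?_⟩
    · rw [← QuotientGroup.eq_one_iff]
      show QuotientGroup.mk' Z (x * x) = 1
      rw [map_mul, hxz, ← pow_two, ← hz, pow_orderOf_eq_one]
    · rw [← QuotientGroup.eq_one_iff]
      show QuotientGroup.mk' Z ⁅x, y⁆ = 1
      rw [map_commutatorElement, hxz]
      exact commutatorElement_eq_one_iff_mul_comm.mpr (Subgroup.mem_center_iff.mp hzc _).symm
    · rw [← hxz, show QuotientGroup.mk' Z x = 1 from (QuotientGroup.eq_one_iff x).mpr hxZ, orderOf_one] at hz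
      norm_num at hz
  obtain ⟨m₀, hm₀, hm₀Z⟩ := hMnot
  -- squaring covers the involutions from `M`
  have hMsq : ∀ m ∈ M, m * m * (m * m) = 1 := fun m hm => hZ _ hm.1.1
  have hm₀2 : m₀ * m₀ ≠ 1 := fun he => hm₀Z (h.central he)
  have hsurj : ∀ u : P, u * u = 1 → ∃ m ∈ M, m * m = u := fun u hu => by
    by_cases hu1 : u = 1
    · exact ⟨1, M.one_mem, by rw [hu1, one_mul]⟩
    refine h.full (A := {v | ∃ m ∈ M, m * m = v}) ?_ ⟨m₀, hm₀, rfl⟩ hm₀2 (hMsq _ hm₀) hu1 hu
    rintro k _ _ ⟨m, hm, rfl⟩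
    exact ⟨k m, hMk k m hm, (map_mul k m m).symm⟩
  -- the centraliser of `M`
  set C := Subgroup.centralizer (M : Set P) with hC
  have hCmem : ∀ g : P, g ∈ C ↔ ∀ m ∈ M, ⁅g, m⁆ = 1 := fun g => by
    rw [hC, Subgroup.mem_centralizer_iff]
    exact ⟨fun hg m hm => commutatorElement_eq_one_iff_mul_comm.mpr (hg m hm).symm,
      fun hg m hm => (commutatorElement_eq_one_iff_mul_comm.mp (hg m hm)).symm⟩
  have hDC : D ≤ C := fun d hd => (hCmem d).mpr fun m hm => by
    rw [← commutatorElement_inv, hDX m hm.1 d hd, inv_one]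
  have hMC : M ≤ C := fun m hm => hDC hm.2
  have hCsq : ∀ y : P, y * y ∈ C := fun y => hDC (hDsq y)
  haveI hCn : C.Normal := ⟨fun c hc g => by
    have e : g * c * g⁻¹ = (g * c) * (g * c) * (c⁻¹ * (g⁻¹ * g⁻¹)) := by group
    rw [e]
    exact C.mul_mem (hCsq _) (C.mul_mem (C.inv_mem hc) (hCsq _))⟩
  have hCk : ∀ k : MulAut P, ∀ c ∈ C, k c ∈ C := fun k c hc => (hCmem _).mpr fun m hm => by
    obtain ⟨v, hv, hve⟩ : ∃ v ∈ M, k v = m := by
      have hmap : M.map (k : P →* P) = M := by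
        refine Subgroup.eq_of_le_of_card_ge ?_ (Subgroup.card_map_of_injective k.injective).ge
        rintro _ ⟨v, hv, rfl⟩
        exact hMk k v hv
      obtain ⟨v, hv, he⟩ := hmap.ge hm
      exact ⟨v, hv, he⟩
    rw [← hve, ← map_commutatorElement, (hCmem c).mp hc v hv, map_one]
  have hCne : C ≠ ⊤ := fun he => hm₀Z (Subgroup.mem_center_iff.mpr fun g =>
    commutatorElement_eq_one_iff_mul_comm.mp ((hCmem g).mp (he ▸ Subgroup.mem_top g) m₀ hm₀))
  have hCcomm : ∀ a ∈ C, ∀ b ∈ C, Commute a b := by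
    by_contra hno
    push Not at hno
    obtain ⟨a, ha, b, hb, hab⟩ := hno
    let Φ : MulAut P →* MulAut C :=
      { toFun := fun k =>
          { toFun := fun c => ⟨k c, hCk k c c.2⟩
            invFun := fun c => ⟨k⁻¹ c, hCk k⁻¹ c c.2⟩
            left_inv := fun c => Subtype.ext (MulAut.inv_apply_self P k c)
            right_inv := fun c => Subtype.ext (MulAut.apply_inv_self P k c)
            map_mul' := fun a b => Subtype.ext (map_mul k (a : P) b) }
        map_one' := MulEquiv.ext fun c => Subtype.ext rfl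
        map_mul' := fun a b => MulEquiv.ext fun c => Subtype.ext rfl }
    have hinvC : ∀ u : P, u * u = 1 → u ∈ C := fun u hu => hMC (hZM (h.central hu))
    have hCh : Hyp C (Y.map Φ) := by
      refine ⟨h.pgroup.to_subgroup C, ?_, fun x y hx1 hx hy1 hy => ?_, ?_⟩
      · haveI := h.solv
        exact Group.isSolvable_of_surjective (f := Φ.subgroupMap Y) (Φ.subgroupMap_surjective Y)
      · obtain ⟨k, hk, hi⟩ := h.trans (x : P) y (fun he => hx1 (Subtype.ext he)) (congrArg Subtype.val hx)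
          (fun he => hy1 (Subtype.ext he)) (congrArg Subtype.val hy)
        exact ⟨Φ k, Subgroup.mem_map_of_mem _ hk, Subtype.ext hi⟩
      · obtain ⟨u, v, huv, hu1, hu, hv1, hv⟩ := h.two
        exact ⟨⟨u, hinvC u hu⟩, ⟨v, hinvC v hv⟩, fun he => huv (congrArg Subtype.val he),
          fun he => hu1 (congrArg Subtype.val he), Subtype.ext hu, fun he => hv1 (congrArg Subtype.val he),
          Subtype.ext hv⟩
    have hlt : Nat.card C < Nat.card P := by
      refine lt_of_le_of_ne (Subgroup.card_le_card_group C) fun he => hCne (Subgroup.eq_top_of_card_eq C he)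
    have hgood := ih C (Y.map Φ) hlt hCh ⟨⟨a, ha⟩, ⟨b, hb⟩, fun he => hab (congrArg Subtype.val he)⟩
    refine hm₀2 (congrArg Subtype.val (hgood.2 (⟨m₀, hMC hm₀⟩ : C) ?_))
    rw [Subgroup.mem_center_iff]
    intro g
    exact Subtype.ext (commutatorElement_eq_one_iff_mul_comm.mp ((hCmem g).mp g.2 m₀ hm₀))
  -- the exponent of `C`
  have hex : ∃ j : ℕ, ∀ c ∈ C, c ^ 2 ^ j = 1 := by
    obtain ⟨n, hn⟩ := (IsPGroup.iff_card (p := 2) (G := P)).mp h.pgroup
    exact ⟨n, fun z _ => by rw [← hn, pow_card_eq_one']⟩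
  classical
  obtain ⟨f, hf⟩ : ∃ f, Nat.find hex = f + 1 + 1 := by
    refine ⟨Nat.find hex - 2, ?_⟩
    have h1 : ¬ Nat.find hex ≤ 1 := fun hle => hm₀2 (by
      have hs := Nat.find_spec hex m₀ (hMC hm₀)
      rw [← pow_two]
      obtain hf | hf : Nat.find hex = 0 ∨ Nat.find hex = 1 := by omega
      · rw [hf, pow_zero, pow_one] at hs; rw [hs, one_pow]
      · rwa [hf, pow_one] at hs)
    omega
  have hexp : ∀ c ∈ C, c ^ 2 ^ (f + 1) * c ^ 2 ^ (f + 1) = 1 := fun z hz => by
    rw [← pow_add, ← two_mul, ← pow_succ', ← hf]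
    exact Nat.find_spec hex z hz
  have hexne : ∃ c ∈ C, c ^ 2 ^ (f + 1) ≠ 1 := by
    by_contra hno
    push Not at hno
    exact Nat.find_min hex (by omega : f + 1 < Nat.find hex) hno
  have hsqrt := h.exists_sqrt (fun k _ => hCk k) hCcomm hexp hexne
  have hpow2 : ∀ c : P, c ^ 2 ^ (f + 1) = (c ^ 2 ^ f) * (c ^ 2 ^ f) := fun c => by
    rw [← pow_add, ← two_mul, ← pow_succ']
  have hpowM : ∀ c ∈ C, c ^ 2 ^ f ∈ M := fun c hc => by
    have h1 : (c ^ 2 ^ f * c ^ 2 ^ f) * (c ^ 2 ^ f * c ^ 2 ^ f) = 1 := by rw [← hpow2]; exact hexp c hc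
    obtain ⟨m, hm, hme⟩ := hsurj _ h1
    set a := c ^ 2 ^ f with ha
    have haC : a ∈ C := C.pow_mem hc _
    have hc' := hCcomm a haC m⁻¹ (C.inv_mem (hMC hm))
    have h2 : a * m⁻¹ * (a * m⁻¹) = 1 := by
      rw [show a * m⁻¹ * (a * m⁻¹) = a * (m⁻¹ * a) * m⁻¹ by group, ← hc'.eq,
        show a * (a * m⁻¹) * m⁻¹ = a * a * (m⁻¹ * m⁻¹) by group, ← mul_inv_rev, hme, mul_inv_cancel]
    have := M.mul_mem (hZM (h.central h2)) hm
    rwa [inv_mul_cancel_right] at this
  -- commutators with `C`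
  have hτC : ∀ (y : P) (c : P), c ∈ C → ⁅y, c⁆ ∈ C := fun y c hc => by
    rw [commutatorElement_def]
    exact C.mul_mem (hCn.conj_mem c hc y) (C.inv_mem hc)
  have hτmul : ∀ (y a b : P), a ∈ C → b ∈ C → ⁅y, a * b⁆ = ⁅y, a⁆ * ⁅y, b⁆ := fun y a b ha hb => by
    rw [commutator_right, (hCcomm a ha _ (hτC y b hb)).eq, mul_inv_cancel_right]
  have hτpow : ∀ (y c : P), c ∈ C → ∀ n : ℕ, ⁅y, c ^ n⁆ = ⁅y, c⁆ ^ n := fun y c hc n => by
    induction n with
    | zero => simp
    | succ n ihn => rw [pow_succ, hτmul y _ _ (C.pow_mem hc n) hc, ihn, ← pow_succ]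
  have hMcen : ∀ (y m : P), m ∈ M → ⁅y, m⁆ ∈ Z := fun y m hm => by
    rw [← commutatorElement_inv]
    exact InvMemClass.inv_mem (hm.1.2 y)
  have hMinv : ∀ (y m : P), m ∈ M → ⁅y, m⁆ * ⁅y, m⁆ = 1 := fun y m hm => hZ _ (hMcen y m hm)
  have hτsqrt : ∀ (y c : P), c ∈ C → ∃ r ∈ C, r * r = ⁅y, c⁆ ∧ r ^ 2 ^ (f + 1) = ⁅y, c ^ 2 ^ f⁆ := by
    intro y c hc
    obtain ⟨r, hr, hre⟩ := hsqrt _ (hτC y c hc) (by
      rw [← hτpow y c hc, hpow2, hτmul y _ _ (C.pow_mem hc _) (C.pow_mem hc _)]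
      exact hMinv y _ (hpowM c hc))
    refine ⟨r, hr, hre, ?_⟩
    rw [hτpow y c hc, ← hre, ← pow_two, ← pow_mul, ← pow_succ']
  -- the action on involutions
  have hlift : ∀ u : P, ∃ m : P, u * u = 1 → m ∈ M ∧ m * m = u := fun u => by
    by_cases hu : u * u = 1
    · obtain ⟨m, hm, hme⟩ := hsurj u hu
      exact ⟨m, fun _ => ⟨hm, hme⟩⟩
    · exact ⟨1, fun he => absurd he hu⟩
  choose lift hlift using hlift
  let R : P → P → P := fun y u => ⁅y, lift u⁆
  have hR : ∀ (y m : P), m ∈ M → R y (m * m) = ⁅y, m⁆ := fun y m hm => by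
    obtain ⟨hl, hle⟩ := hlift (m * m) (hMsq m hm)
    set l' := lift (m * m) with hl'
    have hc := hMcomm m⁻¹ (M.inv_mem hm) l' hl
    have hz : m⁻¹ * l' * (m⁻¹ * l') = 1 := by
      rw [show m⁻¹ * l' * (m⁻¹ * l') = m⁻¹ * (l' * m⁻¹) * l' by group, ← hc.eq,
        show m⁻¹ * (m⁻¹ * l') * l' = m⁻¹ * m⁻¹ * (l' * l') by group, hle, ← mul_inv_rev, inv_mul_cancel]
    have e : l' = m * (m⁻¹ * l') := by group
    show ⁅y, l'⁆ = _
    rw [e, commutator_right, commutatorElement_eq_one_iff_mul_comm.mpr (Subgroup.mem_center_iff.mp (h.central hz) y)]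
    group
  have hRinv : ∀ (y u : P), u * u = 1 → R y u * R y u = 1 := fun y u hu => hMinv y _ (hlift u hu).1
  have hRadd : ∀ (y u v : P), u * u = 1 → v * v = 1 → R y (u * v) = R y u * R y v := by
    intro y u v hu hv
    obtain ⟨ha, hae⟩ := hlift u hu
    obtain ⟨hb, hbe⟩ := hlift v hv
    have hc := hMcomm _ ha _ hb
    have e : u * v = (lift u * lift v) * (lift u * lift v) := by
      rw [show (lift u * lift v) * (lift u * lift v) = lift u * (lift v * lift u) * lift v by group, ← hc.eq,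
        show lift u * (lift u * lift v) * lift v = (lift u * lift u) * (lift v * lift v) by group, hae, hbe]
    rw [e, hR y _ (M.mul_mem ha hb), commutator_right, conj_center (hMcen y _ hb)]
  have hRmul : ∀ (y y' u : P), u * u = 1 → R (y * y') u = R y u * R y' u := fun y y' u hu => by
    show ⁅y * y', lift u⁆ = _
    rw [commutator_left_central (hMcen y' _ (hlift u hu).1), (mem_center_comm (hMcen y _ (hlift u hu).1) _).eq]
  have hRk : ∀ (k : MulAut P) (y u : P), u * u = 1 → R (k y) (k u) = k (R y u) := fun k y u hu => by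
    obtain ⟨ha, hae⟩ := hlift u hu
    rw [show k u = k (lift u) * k (lift u) by rw [← map_mul, hae], hR _ _ (hMk k _ ha), ← map_commutatorElement]
  have hRker : ∀ (y : P), (∀ u, u * u = 1 → R y u = 1) → y ∈ C := fun y hy => (hCmem y).mpr fun m hm => by
    rw [← hR y m hm]
    exact hy _ (hMsq m hm)
  have hRC : ∀ (y : P), y ∈ C → ∀ u, u * u = 1 → R y u = 1 := fun y hy u hu => (hCmem y).mp hy _ (hlift u hu).1
  have hπ : ∀ c ∈ C, ∀ y : P, R y (c ^ 2 ^ (f + 1)) = ⁅y, c ^ 2 ^ f⁆ := fun c hc y => by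
    rw [hpow2]
    exact hR y _ (hpowM c hc)
  -- nobody acts as the identity
  have hone : ∀ y : P, ¬ (y ∉ C ∧ ∀ u, u * u = 1 → R y u = u) := by
    have hsqΩ : ∀ y, y ∉ C → (∀ u, u * u = 1 → R y u = u) → y * y * (y * y) = 1 := by
      intro y _ hy
      have hfix : ⁅y, y * y⁆ = 1 := commutatorElement_eq_one_iff_mul_comm.mpr (by group)
      have hj : ∀ j ≤ f + 1, ∃ t ∈ C, t ^ 2 ^ j = y * y := by
        intro j
        induction j with
        | zero => exact fun _ => ⟨y * y, hCsq y, by rw [pow_zero, pow_one]⟩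
        | succ j ihj =>
          intro hjf
          obtain ⟨t, ht, hte⟩ := ihj (by omega)
          obtain ⟨r, hr, hre, hre'⟩ := hτsqrt y t ht
          have h1 : r ^ 2 ^ (j + 1) = 1 := by rw [pow_succ', pow_mul, pow_two, hre, ← hτpow y t ht, hte, hfix]
          have h2 : r ^ 2 ^ (f + 1) = 1 := by
            obtain ⟨d, hd⟩ := Nat.le.dest hjf
            rw [← hd, pow_add, pow_mul, h1, one_pow]
          rw [hre', ← hπ t ht y, hy _ (hexp t ht)] at h2
          obtain ⟨w, hw, hwe⟩ := hsqrt t ht h2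
          exact ⟨w, hw, by rw [pow_succ', pow_mul, pow_two, hwe, hte]⟩
      obtain ⟨t, ht, hte⟩ := hj (f + 1) le_rfl
      rw [← hte]
      exact hexp t ht
    rintro y ⟨hyC, hy⟩
    set s := y * y with hs
    have hsΩ : s * s = 1 := hsqΩ y hyC hy
    set T := y⁻¹ with hT
    let g : P → P := fun c => y⁻¹ * c * y * c
    have hsq : ∀ c ∈ C, (y * c) * (y * c) = s * g c := fun c hc => by
      simp only [g, hs]
      group
    have hgC : ∀ c ∈ C, g c ∈ C := fun c hc => by
      have := hCn.conj_mem c hc y⁻¹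
      rw [inv_inv] at this
      exact C.mul_mem this hc
    have hgmul : ∀ a ∈ C, ∀ b ∈ C, g (a * b) = g a * g b := fun a ha b hb => by
      have hb' := hCn.conj_mem b hb y⁻¹
      rw [inv_inv] at hb'
      simp only [g]
      rw [show y⁻¹ * (a * b) * y * (a * b) = (y⁻¹ * a * y) * ((y⁻¹ * b * y) * a) * b by group,
        (hCcomm _ hb' a ha).eq]
      group
    let A : Set P := {v | ∃ y', y' ∉ C ∧ (∀ u, u * u = 1 → R y' u = u) ∧ y' * y' = v}
    have hA : ∀ k ∈ Y, ∀ v ∈ A, k v ∈ A := by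
      rintro k - _ ⟨y', hy'C, hy', rfl⟩
      refine ⟨k y', fun hk => hy'C ?_, fun u hu => ?_, (map_mul k y' y').symm⟩
      · refine hRker y' fun u hu => k.injective ?_
        rw [← hRk k y' u hu, map_one, hRC _ hk _ (by rw [← map_mul, hu, map_one])]
      · obtain ⟨v, rfl⟩ := k.surjective u
        have hv : v * v = 1 := k.injective (by rw [map_mul, hu, map_one])
        rw [hRk k y' v hv, hy' v hv]
    have hs1 : s ≠ 1 := fun he => hyC (hMC (hZM (h.central he)))
    have hall : ∀ v : P, v ≠ 1 → v * v = 1 → ∃ c ∈ C, s * g c = v := by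
      intro v hv1 hv
      obtain ⟨y', hy'C, hy', hy'e⟩ := h.full hA (x := s) ⟨y, hyC, hy, rfl⟩ hs1 hsΩ hv1 hv
      have hc : y⁻¹ * y' ∈ C := hRker _ fun u hu => by
        have h1 : R y (u) * R (y⁻¹ * y') u = R y' u := by rw [← hRmul y _ u hu, mul_inv_cancel_left]
        rw [hy u hu, hy' u hu] at h1
        exact mul_eq_left.mp h1
      refine ⟨_, hc, ?_⟩
      rw [← hsq _ hc, mul_inv_cancel_left]
      exact hy'e
    obtain ⟨u, v, huv, hu1, hu, hv1, hv⟩ := h.two
    have huvne : u * v ≠ 1 := fun he => huv (by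
      have h1 := congrArg (· * v) he
      simp only [mul_assoc, hv, mul_one, one_mul] at h1
      exact h1)
    have huv2 : u * v * (u * v) = 1 := by
      rw [show u * v * (u * v) = u * (v * u) * v by group, h.comm hu v,
        show u * (u * v) * v = (u * u) * (v * v) by group, hu, hv, one_mul]
    obtain ⟨a, ha, hae⟩ := hall u hu1 hu
    obtain ⟨b, hb, hbe⟩ := hall v hv1 hv
    obtain ⟨c, hc, hce⟩ := hall _ huvne huv2
    set c₀ := c⁻¹ * (a * b) with hc₀
    have hc₀C : c₀ ∈ C := C.mul_mem (C.inv_mem hc) (C.mul_mem ha hb)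
    have h1 : g a * g b = s * g c := by
      rw [hce, ← hae, ← hbe, show s * g a * (s * g b) = s * (g a * s) * g b by group,
        h.comm hsΩ (g a), show s * (s * g a) * g b = s * s * (g a * g b) by group, hsΩ, one_mul]
    have h2 : g c * g c₀ = g a * g b := by
      rw [← hgmul c hc c₀ hc₀C, hc₀, mul_inv_cancel_left, hgmul a ha b hb]
    rw [h1, ← h.comm hsΩ (g c)] at h2
    have h3 : g c₀ = s := mul_left_cancel h2
    refine hyC ?_
    have h4 : (y * c₀) * (y * c₀) = 1 := by rw [hsq _ hc₀C, h3, hsΩ]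
    have h5 := C.mul_mem (hMC (hZM (h.central h4))) (C.inv_mem hc₀C)
    rwa [mul_inv_cancel_right] at h5
  -- large exponent
  cases f with
  | succ f' =>
    have hidem : ∀ (y u : P), u * u = 1 → R y (R y u) = R y u := by
      intro y u hu
      obtain ⟨c, hc, hce⟩ := h.power_surjective (fun k _ => hCk k) hexp hexne hu
      obtain ⟨r, hr, hre, hre'⟩ := hτsqrt y c hc
      obtain ⟨s, hs, hse, hse'⟩ := hτsqrt y r hr
      rw [← hce, hπ c hc y, ← hre', hπ r hr y, ← hse']
      set d := ⁅y, c⁆ with hd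
      have h1 : ⁅y, d⁆ * (d * d) = 1 := by
        have h2 : ⁅y * y, c⁆ = 1 := commutatorElement_eq_one_iff_mul_comm.mpr (hCcomm _ (hCsq y) c hc).eq
        rw [commutator_left, ← hd] at h2
        rw [← h2]
        simp only [commutatorElement_def]
        group
      have h3 : (s * r) ^ 2 ^ (f' + 1 + 1) = 1 := by
        have h4 : (s * r) ^ 4 = 1 := by
          rw [(hCcomm s hs r hr).mul_pow, show (4 : ℕ) = 2 * 2 from rfl, pow_mul, pow_mul, pow_two s, hse,
            pow_two r, hre]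
          rw [show ⁅y, d⁆ = ⁅y, r⁆ * ⁅y, r⁆ by rw [← hre, hτmul y r r hr hr], ← pow_two, ← pow_two] at h1
          exact h1
        rw [pow_succ, pow_succ, mul_assoc, pow_mul']
        rw [show (2 * 2 : ℕ) = 4 from rfl, h4, one_pow]
      rw [(hCcomm s hs r hr).mul_pow] at h3
      exact (eq_inv_of_mul_eq_one_left h3).trans (eq_inv_of_mul_eq_one_left (hexp r hr)).symm
    -- the actions commute
    have hcommR : ∀ (y y' u : P), u * u = 1 → R y (R y' u) = R y' (R y u) := by
      intro y y' u hu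
      have h1 := hidem (y * y') u hu
      have hy := hRinv y u hu
      have hy' := hRinv y' u hu
      have hyy := hRinv y _ hy'
      have hy'y := hRinv y' _ hy
      rw [hRmul y y' u hu, hRadd _ _ _ hy hy', hRmul y y' _ hy, hRmul y y' _ hy', hidem y u hu, hidem y' u hu] at h1
      have h2 : R y' (R y u) * R y (R y' u) = 1 := by
        have h3 : R y u * (R y' (R y u) * R y (R y' u)) * R y' u = R y u * R y' u := by rw [← h1]; group
        exact mul_eq_left.mp (mul_right_cancel h3)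
      exact ((eq_inv_of_mul_eq_one_left h2).trans (eq_inv_of_mul_eq_one_left hyy).symm).symm
    -- a common eigenvector
    haveI := Fintype.ofFinite P
    let cnt : P → ℕ := fun u => (Finset.univ.filter fun y : P => R y u = 1 ∨ R y u = u).card
    obtain ⟨u₀, hu₀, hmax⟩ := Finset.exists_max_image (Finset.univ.filter fun u : P => u ≠ 1 ∧ u * u = 1) cnt (by
      obtain ⟨u, v, -, hu1, hu, -⟩ := h.two
      exact ⟨u, by simp [hu1, hu]⟩)
    simp only [Finset.mem_filter, Finset.mem_univ, true_and] at hu₀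
    have heig₀ : ∀ y, R y u₀ = 1 ∨ R y u₀ = u₀ := by
      by_contra hno
      push Not at hno
      obtain ⟨y, hy1, hy2⟩ := hno
      have hlt : cnt u₀ < cnt (R y u₀) := by
        refine Finset.card_lt_card ?_
        rw [Finset.ssubset_iff_of_subset]
        · refine ⟨y, ?_, ?_⟩
          · simp [hidem y u₀ hu₀.2]
          · simp [hy1, hy2]
        · intro y' hy'
          simp only [Finset.mem_filter, Finset.mem_univ, true_and] at hy' ⊢
          rw [hcommR y' y u₀ hu₀.2]
          rcases hy' with he | he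
          · left
            rw [he]
            have h1 := hRadd y 1 1 (one_mul 1) (one_mul 1)
            rw [one_mul] at h1
            exact mul_eq_left.mp h1.symm
          · exact Or.inr (by rw [he])
      exact absurd (hmax (R y u₀) (by simp [hy1, hRinv y u₀ hu₀.2])) (not_le.mpr hlt)
    have heig : ∀ u : P, u ≠ 1 → u * u = 1 → ∀ y, R y u = 1 ∨ R y u = u := by
      intro u hu1 hu
      refine (h.full (A := {u | u * u = 1 ∧ ∀ y, R y u = 1 ∨ R y u = u}) ?_ ⟨hu₀.2, heig₀⟩ hu₀.1 hu₀.2 hu1 hu).2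
      rintro k - v ⟨hv, hv'⟩
      refine ⟨by rw [← map_mul, hv, map_one], fun y => ?_⟩
      obtain ⟨y, rfl⟩ := k.surjective y
      rw [hRk k y v hv]
      rcases hv' y with he | he
      · left; rw [he, map_one]
      · right; rw [he]
    obtain ⟨y, hyC⟩ : ∃ y, y ∉ C := by
      by_contra hno
      push Not at hno
      exact hCne (eq_top_iff.mpr fun y _ => hno y)
    refine hone y ⟨hyC, ?_⟩
    by_contra hno
    push Not at hno
    obtain ⟨u, hu, hune⟩ := hno
    have hR1 : R y 1 = 1 := by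
      have h1 := hRadd y 1 1 (one_mul 1) (one_mul 1)
      rw [one_mul] at h1
      exact mul_eq_left.mp h1.symm
    have hu1 : u ≠ 1 := fun he => hune (by rw [he, hR1])
    have hyu : R y u = 1 := (heig u hu1 hu y).resolve_right hune
    obtain ⟨v, hv, hvne⟩ : ∃ v, v * v = 1 ∧ R y v ≠ 1 := by
      by_contra hno
      push Not at hno
      exact hyC (hRker y hno)
    have hv1 : v ≠ 1 := fun he => hvne (by rw [he, hR1])
    have hyv : R y v = v := (heig v hv1 hv y).resolve_left hvne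
    have huv2 : u * v * (u * v) = 1 := by
      rw [show u * v * (u * v) = u * (v * u) * v by group, h.comm hu v,
        show u * (u * v) * v = (u * u) * (v * v) by group, hu, hv, one_mul]
    have huv1 : u * v ≠ 1 := fun he => by
      have h1 : u = v⁻¹ := eq_inv_of_mul_eq_one_left he
      rw [h1, ← (eq_inv_of_mul_eq_one_left hv)] at hyu
      exact hvne hyu
    rcases heig _ huv1 huv2 y with he | he <;> rw [hRadd y u v hu hv, hyu, hyv, one_mul] at he
    · exact hv1 he
    · exact hu1 (mul_eq_right.mp he.symm)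
  | zero =>
    -- exponent four
    obtain ⟨F, _, _, n, hn, hn2, hF2, ⟨Ch⟩⟩ := h.exists_chart
    haveI := hF2
    obtain ⟨k₀, hk₀, l, hl0, hlN, hval_l⟩ := Ch.scal
    let val := Ch.val
    have hvalΩ : ∀ t, val t * val t = 1 := Ch.mem
    have hval_add : ∀ s t, val (s + t) = val s * val t := Ch.add
    have hval_inj : ∀ s t, val s = val t → s = t := Ch.inj
    have hval_zero : val 0 = 1 := Ch.val_zero
    obtain ⟨inj, hinj⟩ : ∃ inj : ∀ u : P, u * u = 1 → F, ∀ u hu, val (inj u hu) = u :=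
      ⟨fun u hu => (Ch.surj u hu).choose, fun u hu => (Ch.surj u hu).choose_spec⟩
    let ρ : P → (F →+ F) := fun y =>
      AddMonoidHom.mk' (fun t => inj (R y (val t)) (hRinv y _ (hvalΩ t))) fun s t => hval_inj _ _ (by
        refine (hinj _ _).trans (Eq.trans ?_ (hval_add _ _).symm)
        rw [hinj, hinj, hval_add s t, hRadd y _ _ (hvalΩ s) (hvalΩ t)])
    have hρ : ∀ (y : P) (t : F), val (ρ y t) = R y (val t) := fun y t => hinj _ _
    have hρmul : ∀ a b, ρ (a * b) = ρ a + ρ b := fun a b => AddMonoidHom.ext fun t => hval_inj _ _ (by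
      rw [AddMonoidHom.add_apply, hval_add, hρ, hρ, hρ, hRmul a b _ (hvalΩ t)])
    have hρ1 : ρ 1 = 0 := AddMonoidHom.ext fun t => hval_inj _ _ (by
      rw [AddMonoidHom.zero_apply, hρ, hval_zero, hRC 1 C.one_mem _ (hvalΩ t)])
    let W : AddSubgroup (F →+ F) :=
      { carrier := Set.range ρ
        add_mem' := by rintro _ _ ⟨a, rfl⟩ ⟨b, rfl⟩; exact ⟨a * b, hρmul a b⟩
        zero_mem' := ⟨1, hρ1⟩
        neg_mem' := by
          rintro _ ⟨a, rfl⟩
          refine ⟨a⁻¹, eq_neg_of_add_eq_zero_left ?_⟩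
          rw [← hρmul, inv_mul_cancel, hρ1] }
    have hρker : ∀ a, ρ a = 0 → a ∈ C := fun a ha => hRker a fun u hu => by
      have h1 := hρ a (inj u hu)
      rw [ha, AddMonoidHom.zero_apply, hval_zero, hinj] at h1
      exact h1.symm
    have hC4 : ∀ c ∈ C, (c * c) * (c * c) = 1 := fun c hc => by
      have h1 := hexp c hc
      rwa [zero_add, pow_one, pow_two] at h1
    have hρsq : ∀ y c : P, c ∈ C → R y (c * c) = ⁅y, c⁆ := fun y c hc => by
      have h1 := hπ c hc y
      rwa [zero_add, pow_one, pow_two, pow_zero, pow_one] at h1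
    have hτ2 : ∀ y c : P, c ∈ C → ⁅y, c⁆ * ⁅y, c⁆ = 1 := fun y c hc => by
      rw [← hρsq y c hc]; exact hRinv y _ (hC4 c hc)
    -- the squaring map
    let sq : P → F := fun y => inj (y * y * (y * y)) (hC4 _ (hCsq y))
    have hsq : ∀ y, val (sq y) = y * y * (y * y) := fun y => hinj _ _
    have hcomC : ∀ a b : P, ⁅a, b⁆ ∈ C := fun a b => by
      have e : ⁅a, b⁆ = (a * b) * (a * b) * (b⁻¹ * (a⁻¹ * a⁻¹) * b⁻¹⁻¹) * (b⁻¹ * b⁻¹) := by
        simp only [commutatorElement_def]; group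
      rw [e]
      exact C.mul_mem (C.mul_mem (hCsq _) (hCn.conj_mem _ (hCsq _) _)) (hCsq _)
    let Bf : P → P → F := fun a b => inj (⁅a, b⁆ * ⁅a, b⁆) (hC4 _ (hcomC a b))
    have hBf : ∀ a b, val (Bf a b) = ⁅a, b⁆ * ⁅a, b⁆ := fun a b => hinj _ _
    have hsqmul : ∀ a b, sq (a * b) = sq a + sq b + Bf a b := fun a b => hval_inj _ _ (by
      rw [hval_add, hval_add, hsq, hsq, hsq, hBf]
      set d := ⁅a, b⁆ with hd
      have e : a * b * (a * b) = d * (⁅b, a * a⁆ * (a * a)) * (b * b) := by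
        simp only [hd, commutatorElement_def]; group
      have hdC : d ∈ C := hcomC a b
      have htC := hτC b _ (hCsq a)
      have haC := hCsq a
      have hbC := hCsq b
      rw [e]
      have key : ∀ x y z w : P, x ∈ C → y ∈ C → z ∈ C → w ∈ C →
          x * (y * z) * w * (x * (y * z) * w) = (z * z) * (w * w) * (x * x) * (y * y) := by
        intro x y z w hx hy hz hw
        letI : CommGroup C := { (inferInstance : Group C) with
          mul_comm := fun p q => Subtype.ext (hCcomm p p.2 q q.2).eq }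
        have : (⟨x, hx⟩ : C) * (⟨y, hy⟩ * ⟨z, hz⟩) * ⟨w, hw⟩ * (⟨x, hx⟩ * (⟨y, hy⟩ * ⟨z, hz⟩) * ⟨w, hw⟩) =
            (⟨z, hz⟩ * ⟨z, hz⟩) * (⟨w, hw⟩ * ⟨w, hw⟩) * (⟨x, hx⟩ * ⟨x, hx⟩) * (⟨y, hy⟩ * ⟨y, hy⟩) := by
          simp only [mul_assoc, mul_left_comm, mul_comm]
        exact congrArg Subtype.val this
      rw [key _ _ _ _ hdC htC haC hbC, hτ2 b _ haC, mul_one])
    let φ : (F →+ F) → F := fun w => sq (Function.invFun ρ w)
    let B : (F →+ F) → (F →+ F) → F := fun v w => Bf (Function.invFun ρ v) (Function.invFun ρ w)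
    have hBadd : ∀ a b c, Bf a (b * c) = Bf a b + Bf a c := fun a b c => hval_inj _ _ (by
      rw [hval_add, hBf, hBf, hBf, commutator_right]
      have hb := hcomC a b
      have hc := hcomC a c
      have hcz : ⁅a, c⁆ * ⁅a, c⁆ ∈ Z := h.central (hC4 _ hc)
      have hc' : b * ⁅a, c⁆ * b⁻¹ ∈ C := hCn.conj_mem _ hc b
      rw [show ⁅a, b⁆ * (b * ⁅a, c⁆ * b⁻¹) * (⁅a, b⁆ * (b * ⁅a, c⁆ * b⁻¹)) =
        ⁅a, b⁆ * ((b * ⁅a, c⁆ * b⁻¹) * ⁅a, b⁆) * (b * ⁅a, c⁆ * b⁻¹) by group, (hCcomm _ hc' _ hb).eq,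
        show ⁅a, b⁆ * (⁅a, b⁆ * (b * ⁅a, c⁆ * b⁻¹)) * (b * ⁅a, c⁆ * b⁻¹) =
        ⁅a, b⁆ * ⁅a, b⁆ * (b * (⁅a, c⁆ * ⁅a, c⁆) * b⁻¹) by group, conj_center hcz])
    have hBC : ∀ a c, c ∈ C → Bf a c = 0 := fun a c hc => hval_inj _ _ (by rw [hBf, hval_zero, hτ2 a c hc])
    have hBsymm : ∀ a b, Bf a b = Bf b a := fun a b => hval_inj _ _ (by
      rw [hBf, hBf, ← commutatorElement_inv b a, ← mul_inv_rev, inv_eq_of_mul_eq_one_left]
      exact hC4 _ (hcomC b a))
    have hsqC : ∀ c ∈ C, sq c = 0 := fun c hc => hval_inj _ _ (by rw [hsq, hval_zero, hC4 c hc])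
    have hcls : ∀ a a', ρ a = ρ a' → a⁻¹ * a' ∈ C := fun a a' he => by
      refine hρker _ ?_
      have h1 := hρmul a (a⁻¹ * a')
      rw [mul_inv_cancel_left, ← he] at h1
      exact add_eq_left.mp h1.symm
    have hwd : ∀ a a', ρ a = ρ a' → sq a = sq a' ∧ ∀ b, Bf b a = Bf b a' := fun a a' he => by
      have hc := hcls a a' he
      refine ⟨?_, fun b => ?_⟩
      · conv_rhs => rw [← mul_inv_cancel_left a a', hsqmul, hsqC _ hc, hBC _ _ hc, add_zero, add_zero]
      · conv_rhs => rw [← mul_inv_cancel_left a a', hBadd, hBC _ _ hc, add_zero]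
    have hrep : ∀ w ∈ W, ρ (Function.invFun ρ w) = w := fun w hw => Function.invFun_eq hw
    have hφ : ∀ a, φ (ρ a) = sq a := fun a => (hwd _ _ (hrep _ ⟨a, rfl⟩)).1
    have hBρ : ∀ a b, B (ρ a) (ρ b) = Bf a b := fun a b => by
      show Bf (Function.invFun ρ (ρ a)) (Function.invFun ρ (ρ b)) = _
      rw [(hwd _ _ (hrep _ ⟨b, rfl⟩)).2, hBsymm, (hwd _ _ (hrep _ ⟨a, rfl⟩)).2, hBsymm]
    have hzero : ∀ w ∈ W, φ w = 0 := by
      let S : F → (F ≃+* F) → Prop := fun a σ => ∃ k ∈ Y, ∀ t, k (val t) = val (a * σ t)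
      refine phi_eq_zero hn hn2 hl0 hlN S ⟨k₀, hk₀, hval_l⟩ ?_ W ?_ φ B ?_ ?_ ?_ ?_ ?_ ?_
      · intro u v hu hv
        obtain ⟨k, hk, hkuv⟩ := h.trans (val u) (val v) (fun he => hu (hval_inj _ _ (he.trans hval_zero.symm)))
          (hvalΩ u) (fun he => hv (hval_inj _ _ (he.trans hval_zero.symm))) (hvalΩ v)
        obtain ⟨a, σ, ha, hka⟩ := Ch.semi k hk
        exact ⟨a, σ, ⟨k, hk, hka⟩, ha, hval_inj _ _ ((hka u).symm.trans hkuv)⟩
      · rintro a σ ⟨k, -, hk⟩ _ ⟨y, rfl⟩
        exact ⟨ρ (k y), ⟨k y, rfl⟩, fun t => hval_inj _ _ (by rw [hρ, ← hk, ← hk, hρ, hRk k y _ (hvalΩ t)])⟩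
      · rintro _ ⟨a, rfl⟩ _ ⟨b, rfl⟩
        rw [← hρmul, hφ, hφ, hφ, hBρ, hsqmul]
      · rintro _ ⟨a, rfl⟩ _ ⟨b, rfl⟩ _ ⟨c, rfl⟩
        rw [← hρmul, hBρ, hBρ, hBρ, hBadd]
      · rintro _ ⟨a, rfl⟩ _ ⟨b, rfl⟩
        rw [hφ, hBρ]
        refine hval_inj _ _ ?_
        rw [hval_add, hρ, hρ, hsq, hBf, hρsq b _ (hCsq a), hρsq a _ (hcomC a b)]
        set d := ⁅a, b⁆ with hd
        have hd2 := hC4 d (hcomC a b)
        have hτd := hτ2 a d (hcomC a b)
        have e : ⁅b, a * a⁆ = d⁻¹ * (a * d⁻¹ * a⁻¹) := by simp only [hd, commutatorElement_def]; group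
        have e2 : a * d⁻¹ * a⁻¹ = d⁻¹ * ⁅a, d⁆⁻¹ := by simp only [commutatorElement_def]; group
        rw [e, e2, inv_eq_of_mul_eq_one_left hτd, ← mul_assoc, ← mul_inv_rev, inv_eq_of_mul_eq_one_left hd2]
      · rintro _ ⟨a, rfl⟩
        rw [hφ]
        refine hval_inj _ _ ?_
        rw [hρ, hsq, hρsq a _ (hCsq a), hval_zero]
        exact commutatorElement_eq_one_iff_mul_comm.mpr (by group)
      · rintro _ ⟨a, rfl⟩ hane hφ0
        have haC : a ∉ C := fun hc => hane (AddMonoidHom.ext fun t => hval_inj _ _ (by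
          rw [hρ, AddMonoidHom.zero_apply, hval_zero, hRC a hc _ (hvalΩ t)]))
        rw [hφ] at hφ0
        have hs : a * a * (a * a) = 1 := by rw [← hsq, hφ0, hval_zero]
        by_contra hno
        push Not at hno
        let G : F →+ F := ρ a + AddMonoidHom.id F
        have hGinj : Function.Injective G := (injective_iff_map_eq_zero G).mpr fun t ht => by
          by_contra ht0
          exact hno t ht0 (CharTwo.add_eq_zero.mp ht)
        obtain ⟨t, ht⟩ := (Finite.injective_iff_surjective.mp hGinj) (inj (a * a) hs)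
        have h1 : R a (val t) * val t = a * a := by
          have := congrArg val ht
          rwa [show G t = ρ a t + t from rfl, hval_add, hρ, hinj] at this
        obtain ⟨hm, hme⟩ := hlift (val t) (hvalΩ t)
        set m := lift (val t) with hmdef
        rw [← hme, hR a m hm] at h1
        refine haC ?_
        have hz := hMcen a m hm
        have e : a⁻¹ * m * a = m * ⁅a, m⁆ := by
          have h2 := conj_center hz a⁻¹
          have h3 : a⁻¹ * m * a = m * (a⁻¹ * ⁅a, m⁆⁻¹ * a⁻¹⁻¹) ∨ True := Or.inr trivial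
          have h4 : a⁻¹ * ⁅a, m⁆ * a⁻¹⁻¹ = m * (a⁻¹ * m * a)⁻¹ := by simp only [commutatorElement_def]; group
          rw [h4] at h2
          have h5 : a⁻¹ * m * a = ⁅a, m⁆⁻¹ * m := by rw [← h2]; group
          rw [h5, inv_eq_of_mul_eq_one_left (hMinv a m hm), Subgroup.mem_center_iff.mp hz m]
        have h2 : (a * m) * (a * m) = 1 := by
          rw [show (a * m) * (a * m) = a * a * ((a⁻¹ * m * a) * m) by group, e,
            show m * ⁅a, m⁆ * m = m * (⁅a, m⁆ * m) by group, ← Subgroup.mem_center_iff.mp hz m,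
            show m * (m * ⁅a, m⁆) = m * m * ⁅a, m⁆ by group, Subgroup.mem_center_iff.mp hz (m * m), h1, hs]
        have h5 := C.mul_mem (hMC (hZM (h.central h2))) (C.inv_mem (hMC hm))
        rwa [mul_inv_cancel_right] at h5
      · rintro ⟨a, ha⟩
        refine hone a ⟨fun hc => ?_, fun u hu => ?_⟩
        · have h1 := hρ a 1
          rw [hRC a hc _ (hvalΩ 1), ha, AddMonoidHom.id_apply, ← hval_zero] at h1
          exact one_ne_zero (hval_inj _ _ h1)
        · have h1 := hρ a (inj u hu)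
          rw [ha, AddMonoidHom.id_apply, hinj] at h1
          exact h1.symm
    refine hy₀ (h.central ?_)
    have h1 := hzero _ ⟨y₀, rfl⟩
    rw [hφ] at h1
    rw [← hsq, h1, hval_zero]

/-- **Higman's theorem**, first part, for a solvable group of automorphisms. -/
theorem good (P : Type u) [Group P] [Finite P] (Y : Subgroup (MulAut P)) (h : Hyp P Y) (hne : ∃ x y : P, x * y ≠ y * x) :
    Good P := by
  suffices key : ∀ (m : ℕ) (Q : Type u) [Group Q] [Finite Q] (Y : Subgroup (MulAut Q)), Nat.card Q < m → Hyp Q Y →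
      (∃ x y : Q, x * y ≠ y * x) → Good Q from key _ P Y (Nat.lt_succ_self _) h hne
  intro m
  induction m with
  | zero => intro Q _ _ Y hlt; exact absurd hlt (Nat.not_lt_zero _)
  | succ m ih =>
    intro Q _ _ Y hlt h hne
    have ih' : ∀ (R : Type u) [Group R] [Finite R] (Y' : Subgroup (MulAut R)), Nat.card R < Nat.card Q → Hyp R Y' →
        (∃ x y : R, x * y ≠ y * x) → Good R := fun R _ _ Y' hR => ih R Y' (by omega)
    have hZ := h.center_elementary hne ih'
    exact ⟨h.squares_central hne hZ ih', hZ⟩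

end CfsgLib.SolvSuzuki
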